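import Groth.Agent.HypSq.Surface

/-!
# The restriction of the classes `F_m ⊗ N^r` to the graph
-/

set_option autoImplicit false
set_option linter.style.haveILetI false
set_option linter.unusedSectionVars false

universe u

open CategoryTheory CategoryTheory.Limits AlgebraicGeometry TopologicalSpace Opposite

namespace Groth.HypSq

open Groth.PicAux Groth.Inter
open scoped Groth.Abvar.PicCalc
open Groth.Abvar.PicCalc (cls pull pull_cls pull_comp pull_id nonempty_iso_iff cls_tensorMod
  cls_tensorPow)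

variable {k : Type u} [Field k] [IsAlgClosed k] {C : Scheme.{u}} [C.Over (Spec (CommRingCat.of k))]
  [IsProper (C ↘ Spec (CommRingCat.of k))] [Smooth (C ↘ Spec (CommRingCat.of k))] [ConnectedSpace ↥C]
  (hdim : topologicalKrullDim ↥C = 1) (κ : C ⟶ CohB1.ProjSpace 1 k)
  (hκ : κ ≫ CohB1.ProjSpace.toSpec 1 k = (C ↘ Spec (CommRingCat.of k)))
  [IsFinite κ] [Flat κ] (hκ2 : ∀ y : ↥(CohB1.ProjSpace 1 k), κ.finrank y = 2)

theorem pow_calc {G : Type*} [CommMonoid G] (a l : G) {γ m r s : ℕ} (h : a * l ^ γ = 1)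
    (hs : s + γ * r = 2 * m) : l ^ (2 * m) * a ^ r = l ^ s := by
  rw [← hs, pow_add, pow_mul, mul_assoc, ← mul_pow, mul_comm (l ^ γ) a, h, one_pow, mul_one]

/-- The external product `F_m`. -/
noncomputable abbrev box (m : ℕ) : (sq k C).Modules :=
  CohB1.tensorMod ((Scheme.Modules.pullback (pullback.fst (str k C) (str k C))).obj (lbPow κ m))
    ((Scheme.Modules.pullback (pullback.snd (str k C) (str k C))).obj (lbPow κ m))

theorem isInvertible_box (m : ℕ) : PicF.IsInvertible (box κ m) :=
  PicAux.isInvertible_tensorMod (PicAux.isInvertible_pullback _ (isInvertible_lbPow κ m))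
    (PicAux.isInvertible_pullback _ (isInvertible_lbPow κ m))

theorem pull_cls_box (σ : C ⟶ C) (hσp : σ ≫ str k C = str k C) (hσ : σ ≫ κ = κ) (m : ℕ) :
    pull (graph σ hσp) (cls (isInvertible_box κ m)) = lCls κ ^ (2 * m) := by
  rw [cls_tensorMod (PicAux.isInvertible_pullback _ (isInvertible_lbPow κ m))
      (PicAux.isInvertible_pullback _ (isInvertible_lbPow κ m)), map_mul,
    ← pull_cls _ (isInvertible_lbPow κ m), ← pull_cls _ (isInvertible_lbPow κ m),
    pull_graph_fst, pull_graph_snd, cls_lbPow, map_pow, pull_lCls κ σ hσ, ← pow_add, two_mul]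

include hdim hκ hκ2 in
theorem nonempty_pullback_graph (σ : C ⟶ C) (hσp : σ ≫ str k C = str k C) (hσ : σ ≫ κ = κ) {γ : ℕ}
    (hγ : γ + 1 = Curv2.genus k C) {N : (sq k C).Modules} (hN : PicF.IsInvertible N)
    (hNinv : ClSub.IsInverseOf N (ClSub.idealMod (graph σ hσp).ker)) (m r s : ℕ)
    (hs : s + γ * r = 2 * m) :
    Nonempty ((Scheme.Modules.pullback (graph σ hσp)).obj
      (CohB1.tensorMod (box κ m) (CohB1.tensorPow N r)) ≅ lbPow κ s) := by
  have hT := PicAux.isInvertible_tensorMod (isInvertible_box κ m) (PicAux.isInvertible_tensorPow hN r)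
  rw [nonempty_iso_iff (PicAux.isInvertible_pullback _ hT) (isInvertible_lbPow κ s), ← pull_cls _ hT,
    cls_tensorMod (isInvertible_box κ m) (PicAux.isInvertible_tensorPow hN r), map_mul,
    pull_cls_box κ σ hσp hσ, cls_tensorPow hN, map_pow, cls_lbPow]
  exact pow_calc _ _ (pull_cls_graph_inverse hdim κ hκ hκ2 σ hσp hσ hγ hN hNinv) hs

end Groth.HypSq
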