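import Groth.Agent.HypSq.Fibre
import Groth.Agent.HypSq.Graph
import Groth.Agent.Inter.Devissage
import Groth.Agent.Inter.Surface
import Groth.Agent.SchemeMorphisms.PrinParts.FlatExact
import Groth.Agent.FlatStrata.Twist
import Groth.Agent.Abvar.Seesaw.Core
import Groth.Agent.Curves1.RR.LinEquiv
import Groth.Agent.CohTwo.SupportLocal
import Groth.Agent.CurveBridge.Clifford
import Groth.Agent.S2443
import Groth.Agent.VarietyBC.CurveDeg
import Mathlib.AlgebraicGeometry.AlgClosed.Basic

/-!
# The Euler characteristic of an external product on the square of a curve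

`χ(p₁^*M ⊗ p₂^*M') = χ(M) χ(M')` for invertible modules: the difference is additive in `M`, kills
points, hence is the same for all invertible `M`, and it vanishes for an invertible module without
cohomology.
-/

set_option autoImplicit false
set_option linter.style.haveILetI false
set_option linter.unusedSectionVars false

universe u

open CategoryTheory CategoryTheory.Limits AlgebraicGeometry TopologicalSpace Opposite

namespace Groth.HypSq

open Groth.PicAux Groth.Inter
open scoped Groth.CurveBridge

section Defect

variable (k : Type u) [Field k] [IsAlgClosed k] (C : Scheme.{u}) [C.Over (Spec (CommRingCat.of k))]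
  [IsProper (C ↘ Spec (CommRingCat.of k))] [Smooth (C ↘ Spec (CommRingCat.of k))]
  [ConnectedSpace ↥C]

/-- The functor `F ↦ p₁^*F ⊗ p₂^*B`. -/
noncomputable abbrev extTwist (B : C.Modules) : C.Modules ⥤ (sq k C).Modules :=
  Scheme.Modules.pullback (pullback.fst (str k C) (str k C)) ⋙
    DCoh.tensorRightMod ((Scheme.Modules.pullback (pullback.snd (str k C) (str k C))).obj B)

/-- The defect `χ(p₁^*F ⊗ p₂^*B) - χ(B) χ(F)`. -/
noncomputable def defect (B F : C.Modules) : ℤ :=
  Curv2.euler k (sq k C) ((extTwist k C B).obj F) - Curv2.euler k C B * Curv2.euler k C F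

variable {k C}

theorem defect_congr (B : C.Modules) {F F' : C.Modules} (e : F ≅ F') :
    defect k C B F = defect k C B F' := by
  rw [defect, defect, EulerDeg.euler_congr k ((extTwist k C B).mapIso e), EulerDeg.euler_congr k e]

theorem shortExact_extTwist {B : C.Modules} (hB : PicF.IsInvertible B) {S : ShortComplex C.Modules}
    (hS : S.ShortExact) :
    ((S.map (Scheme.Modules.pullback (pullback.fst (str k C) (str k C)))).map
      (DCoh.tensorRightMod
        ((Scheme.Modules.pullback (pullback.snd (str k C) (str k C))).obj B))).ShortExact := by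
  haveI : Smooth (str k C) := ‹_›
  haveI : Flat (pullback.fst (str k C) (str k C)) :=
    MorphismProperty.pullback_fst (P := @Flat) _ _ inferInstance
  haveI := Groth.PrinPartsAux.preservesFiniteLimits_pullback (pullback.fst (str k C) (str k C))
  haveI : (Scheme.Modules.pullback (pullback.fst (str k C) (str k C))).Additive :=
    Adjunction.left_adjoint_additive
      (Scheme.Modules.pullbackPushforwardAdjunction (pullback.fst (str k C) (str k C)))
  haveI : PreservesColimitsOfSize.{0, 0}
      (Scheme.Modules.pullback (pullback.fst (str k C) (str k C))) :=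
    (Scheme.Modules.pullbackPushforwardAdjunction _).leftAdjoint_preservesColimits
  haveI : PreservesFiniteColimits
      (Scheme.Modules.pullback (pullback.fst (str k C) (str k C))) :=
    PreservesColimitsOfSize.preservesFiniteColimits _
  exact PicAux.shortExact_tensorRightMod (PicAux.isInvertible_pullback _ hB) (hS.map_of_exact _)

theorem isCoh_extTwist {B F : C.Modules} (hB : PicF.IsInvertible B) (hF : Coh.IsCoh F) :
    Coh.IsCoh ((extTwist k C B).obj F) :=
  RefRank.isCoh_tensorMod (Groth.FlatStrata.isCoh_pullback _ hF)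
    (Inter.isCoh_of_isInvertible (PicAux.isInvertible_pullback _ hB))

theorem defect_add {B : C.Modules} (hB : PicF.IsInvertible B) {S : ShortComplex C.Modules}
    (hS : S.ShortExact) (h₁ : Coh.IsCoh S.X₁) (h₃ : Coh.IsCoh S.X₃) :
    defect k C B S.X₂ = defect k C B S.X₁ + defect k C B S.X₃ := by
  have e := Inter.euler_add k hS h₁ h₃
  have e' := Inter.euler_add k (shortExact_extTwist (k := k) hB hS) (isCoh_extTwist hB h₁)
    (isCoh_extTwist hB h₃)
  change Curv2.euler k (sq k C) ((extTwist k C B).obj S.X₂) =
    Curv2.euler k (sq k C) ((extTwist k C B).obj S.X₁) +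
      Curv2.euler k (sq k C) ((extTwist k C B).obj S.X₃) at e'
  simp only [defect, e, e']
  ring

variable (hdim : topologicalKrullDim ↥C = 1)

include hdim in
theorem defect_point {B : C.Modules} (hB : PicF.IsInvertible B) (x : Spec (CommRingCat.of k) ⟶ C)
    (hx : x ≫ str k C = 𝟙 _) : defect k C B (ClSub.quotMod x.ker) = 0 := by
  haveI := ZetaAn.ProdCurves.isClosedImmersion_of_over' (str k C) x hx
  haveI := ZetaAn.ProdCurves.isClosedImmersion_of_over' (pullback.snd (str k C) (str k C)) _
    (vert_snd x hx)
  haveI := CohC3.isNoetherian_of_proper k C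
  haveI := Inter.isNoetherian k (X := sq k C)
  have hI := isEffCartierIdeal_point hdim x hx
  have hV := isEffCartierIdeal_of_section' hdim _ (vert_snd x hx)
  have hk : (vert x hx).ker = x.ker.comap (pullback.fst (str k C) (str k C)) :=
    AdicLinTop.Thickenings.ker_eq_comap_of_isPullback
      (ZetaAn.ProdCurves.isPullback_section (str k C) (str k C) x hx _
        ⟨vert_snd x hx, vert_fst x hx⟩)
  obtain ⟨e⟩ := pullback_idealMod (pullback.fst (str k C) (str k C)) hI (hk ▸ hV)
  let e1 : (Scheme.Modules.pullback (pullback.fst (str k C) (str k C))).obj (ClSub.idealMod x.ker) ≅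
      ClSub.idealMod (vert x hx).ker := e ≪≫ eqToIso (by rw [hk])
  obtain ⟨e2⟩ := PicAux.pullback_structure_iso (pullback.fst (str k C) (str k C))
  have hP : PicF.IsInvertible ((Scheme.Modules.pullback (pullback.snd (str k C) (str k C))).obj B) :=
    PicAux.isInvertible_pullback _ hB
  have a1 := Inter.euler_add k (shortExact_extTwist (k := k) hB (shortExact_idealMod x.ker))
    (isCoh_extTwist hB (Inter.isCoh_of_isInvertible (isInvertible_idealMod hI)))
    (isCoh_extTwist hB (EulerDeg.isCoh_quotMod x.ker))
  have a2 := Inter.euler_add k (shortExact_idealMod_twist (vert x hx).ker hP)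
    (RefRank.isCoh_tensorMod (Inter.isCoh_of_isInvertible (isInvertible_idealMod hV))
      (Inter.isCoh_of_isInvertible hP))
    (RefRank.isCoh_tensorMod (EulerDeg.isCoh_quotMod _) (Inter.isCoh_of_isInvertible hP))
  change Curv2.euler k (sq k C) ((extTwist k C B).obj (Coh.structureModule C)) =
    Curv2.euler k (sq k C) ((extTwist k C B).obj (ClSub.idealMod x.ker)) +
      Curv2.euler k (sq k C) ((extTwist k C B).obj (ClSub.quotMod x.ker)) at a1
  change Curv2.euler k (sq k C) ((DCoh.tensorRightMod
      ((Scheme.Modules.pullback (pullback.snd (str k C) (str k C))).obj B)).obj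
        (Coh.structureModule (sq k C))) =
    Curv2.euler k (sq k C) ((DCoh.tensorRightMod
      ((Scheme.Modules.pullback (pullback.snd (str k C) (str k C))).obj B)).obj
        (ClSub.idealMod (vert x hx).ker)) +
    Curv2.euler k (sq k C) (CohB1.tensorMod (ClSub.quotMod (vert x hx).ker)
      ((Scheme.Modules.pullback (pullback.snd (str k C) (str k C))).obj B)) at a2
  let P := (Scheme.Modules.pullback (pullback.snd (str k C) (str k C))).obj B
  have c2 : Curv2.euler k (sq k C) ((extTwist k C B).obj (Coh.structureModule C)) =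
      Curv2.euler k (sq k C) ((DCoh.tensorRightMod P).obj (Coh.structureModule (sq k C))) :=
    EulerDeg.euler_congr k ((DCoh.tensorRightMod P).mapIso e2)
  have c1 : Curv2.euler k (sq k C) ((extTwist k C B).obj (ClSub.idealMod x.ker)) =
      Curv2.euler k (sq k C) ((DCoh.tensorRightMod P).obj (ClSub.idealMod (vert x hx).ker)) :=
    EulerDeg.euler_congr k ((DCoh.tensorRightMod P).mapIso e1)
  rw [c2, c1, a2, add_right_inj] at a1
  rw [EulerDeg.euler_congr k (tensor_comm (ClSub.quotMod (vert x hx).ker) _).some,
    ZetaAn.ProdCurves.euler_twist_quotMod k _ (vert_over x hx) hP,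
    EulerDeg.euler_congr k (ZetaAn.ProdCurves.pullback_id_iso _ _ (vert_snd x hx) B).some] at a1
  have a3 : Curv2.euler k C (ClSub.quotMod x.ker) = 1 := by
    letI : (Spec (CommRingCat.of k)).Over (Spec (CommRingCat.of k)) := ⟨𝟙 _⟩
    rw [ZetaAn.ProdCurves.euler_quotMod k x hx, ZetaAn.ProdCurves.euler_spec_field]
  rw [defect, ← a1, a3, mul_one, sub_self]

include hdim in
theorem defect_closure {B : C.Modules} (hB : PicF.IsInvertible B) {y : C}
    (hy : IsClosed ({y} : Set C)) : defect k C B (Cyc.closureStructureSheaf y) = 0 := by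
  let x := pointOfClosedPoint (str k C) y hy
  have hx : x ≫ str k C = 𝟙 _ := pointOfClosedPoint_comp (str k C) y hy
  have hr : Set.range x = {y} := by
    ext z
    simp only [Set.mem_range, Set.mem_singleton_iff]
    exact ⟨fun ⟨w, hw⟩ => hw ▸ pointOfClosedPoint_apply (str k C) y hy w,
      fun h => ⟨default, h ▸ pointOfClosedPoint_apply (str k C) y hy default⟩⟩
  have hk : x.ker = IntMult.ptIdeal y :=
    (Groth.AlgSp3.ker_eq_vanishingIdeal_of_isReduced x).trans
      (congrArg _ (Closeds.ext (show closure (Set.range x) = closure {y} by rw [hr])))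
  have h := defect_point hdim hB x hx
  rw [hk] at h
  exact h

include hdim in
theorem defect_supported {B : C.Modules} (hB : PicF.IsInvertible B) {F : C.Modules}
    (hF : Coh.IsCoh F) (hs : EulerDeg.SupportedAtClosed F) : defect k C B F = 0 := by
  haveI := CohC3.isNoetherian_of_proper k C
  refine Inter.additive_eq_zero (defect k C B) (fun S hS h₁ _ h₃ => defect_add hB hS h₁ h₃)
    (Groth.CohTwo.isClosed_support F hF) (fun y hy => ?_) hF subset_rfl
  exact defect_closure hdim hB (hs y (hy (subset_closure rfl)))

include hdim in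
theorem defect_eq_of_ne_zero {B : C.Modules} (hB : PicF.IsInvertible B) {M T : C.Modules}
    (hM : PicF.IsInvertible M) (hT : PicF.IsInvertible T) {φ : M ⟶ T} (hφ : φ ≠ 0) :
    defect k C B M = defect k C B T := by
  haveI := isIntegral_curve k C
  haveI := CohC3.isNoetherian_of_proper k C
  haveI := EulerDeg.mono_of_ne_zero hM hT hφ
  have hTc : Coh.IsCoh T := Inter.isCoh_of_isInvertible hT
  have hMc : Coh.IsCoh M := Inter.isCoh_of_isInvertible hM
  haveI := hMc.1
  have hS : (ShortComplex.mk φ (cokernel.π φ) (cokernel.condition φ)).ShortExact :=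
    { exact := ShortComplex.exact_cokernel φ }
  have hC : Coh.IsCoh (cokernel φ) := Groth.QCohMod.isCoh_cokernel φ hTc
  have e := defect_add (k := k) hB hS hMc hC
  have h0 := defect_supported (k := k) hdim hB hC
    (EulerDeg.supportedAtClosed_cokernel hM hT hφ hdim.le)
  change defect k C B T = defect k C B M + defect k C B (cokernel φ) at e
  rw [e, h0, add_zero]

include hdim in
/-- There is a nonzero map into an invertible module of large enough degree. -/
theorem exists_hom_ne_zero {M T : C.Modules} (hM : PicF.IsInvertible M) (hT : PicF.IsInvertible T)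
    (hd : (Curv2.genus k C : ℤ) ≤ Curv2.deg k C T 1 - Curv2.deg k C M 1) :
    ∃ φ : M ⟶ T, φ ≠ 0 := by
  haveI := isIntegral_curve k C
  obtain ⟨M', hM', hMM'⟩ := exists_isInverseOf hM
  have hU := PicAux.isInvertible_tensorMod hT hM'
  have hdU : Curv2.deg k C (CohB1.tensorMod T M') 1 =
      Curv2.deg k C T 1 - Curv2.deg k C M 1 := by
    rw [EulerDeg.deg_tensor_invertible k hdim.le hT hM',
      deg_inverse hdim hM' hM (isInverseOf_symm' hMM'), sub_eq_add_neg]
  have he := euler_line (k := k) hdim hU
  rw [EulerDeg.euler_eq_sub fun n hn => CurveBridge.subsingleton_HH k (isRegCurve k hdim) _ hn,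
    hdU] at he
  have hnt : Nontrivial (Coh.HH C (CohB1.tensorMod T M') 0) :=
    Module.nontrivial_of_finrank_pos (R := k) (by omega)
  obtain ⟨s, hs⟩ := (Inter.nontrivial_h0_iff k _).1 hnt
  obtain ⟨ψ, hψ⟩ := Inter.exists_hom_of_twist hM (isInverseOf_symm' hMM') hT
    (EulerDeg.isInvertible_structureModule C) hs
  let e : CohB1.tensorMod (Coh.structureModule C) M ≅ M := (tensor_one M).some
  exact ⟨e.inv ≫ ψ, fun h => hψ (by rw [← e.hom_inv_id_assoc ψ, h, comp_zero])⟩

/-- An invertible module without cohomology. -/
theorem exists_acyclic (k : Type u) [Field k] [IsAlgClosed k] {C : Scheme.{u}}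
    [C.Over (Spec (CommRingCat.of k))] [IsProper (C ↘ Spec (CommRingCat.of k))]
    [Smooth (C ↘ Spec (CommRingCat.of k))] [ConnectedSpace ↥C]
    (hdim : topologicalKrullDim ↥C = 1) : ∃ A : C.Modules, PicF.IsInvertible A ∧
    ∀ n : ℕ, Subsingleton (Coh.HH C A n) := by
  haveI := isIntegral_curve k C
  have h := isRegCurve k hdim
  have hK := CurveBridge.isFunctionField (k := k) (X := C) hdim
  have hF : FunFld1.IsFF k C.functionField := FunFld1.IsFF.of_isFunctionField hK
  haveI := CurveBridge.infinite_place (k := k) hF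
  obtain ⟨D, hD0, hD, hl⟩ := CurveBridge.exists_effective_ell_one hK _
    (le_refl (FunFld.genus k C.functionField))
  obtain ⟨P, hP⟩ := Infinite.exists_notMem_finset D.support
  have hP0 := Finsupp.notMem_support_iff.mp hP
  have hone : (1 : C.functionField) ∈ FunFld.L D := by
    refine Groth.FunFld1.L_mono (k := k) hD0 ?_
    rw [Groth.FunFld1.L_zero_eq hK]
    exact Submodule.mem_one.mpr ⟨1, map_one _⟩
  have hdiv : FunFld.div k (1 : C.functionField) = 0 := by
    have := hF.div_mul (x := 1) (y := 1) one_ne_zero one_ne_zero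
    rw [one_mul] at this
    simpa using this
  have hle : D - Finsupp.single P 1 ≤ D :=
    sub_le_self _ (Finsupp.single_nonneg.mpr zero_le_one)
  haveI : FiniteDimensional k (FunFld.L D) := hF.finiteDimensional_L _
  have hl0 : FunFld.ell (D - Finsupp.single P 1) = 0 := by
    have : FunFld.ell (D - Finsupp.single P 1) < FunFld.ell D := by
      refine Submodule.finrank_lt_finrank_of_lt
        (lt_of_le_of_ne (Groth.FunFld1.L_mono hle) fun he => ?_)
      have h1 := (hF.mem_L_iff one_ne_zero).mp (he.symm ▸ hone) P
      rw [hdiv, add_zero, Finsupp.sub_apply, Finsupp.single_eq_same, hP0] at h1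
      simp at h1
    omega
  obtain ⟨A, hA, h0, -, h1⟩ :=
    CurveBridge.exists_invertible_numerics (k := k) h hK (D - Finsupp.single P 1)
  have hg := CurveBridge.genus_eq (k := k) h hK
  rw [hl0, Groth.FunFld1.deg_sub, Groth.FunFld1.deg_single,
    Groth.FunFld1.deg_eq_one_of_isAlgClosed hF P, hD] at h1
  refine ⟨A, hA, fun n => ?_⟩
  haveI := CurveBridge.finite_h (k := k) h hK hA
  match n with
  | 0 => exact (Module.finrank_zero_iff (R := k)).mp (h0.trans hl0)
  | 1 => exact (Module.finrank_zero_iff (R := k)).mp (by push_cast at h1; omega)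
  | n + 2 => exact CurveBridge.subsingleton_HH k h A (by omega)

theorem euler_extTwist_acyclic {A B : C.Modules} (hA : PicF.IsInvertible A)
    (hA0 : ∀ n, Subsingleton (Coh.HH C A n)) (hB : PicF.IsInvertible B) :
    Curv2.euler k (sq k C) ((extTwist k C B).obj A) = 0 := by
  haveI := (Inter.isCoh_of_isInvertible hA).1
  haveI := (Inter.isCoh_of_isInvertible hB).1
  refine EulerDeg.euler_of_isZero fun n => ?_
  obtain ⟨e⟩ := Groth.Agent.S2443.result k C C A B
    (Groth.Abvar.Seesaw.isFlatOver_of_isInvertible _ hA) (fun p => inferInstance) n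
  haveI := hA0
  exact e.toEquiv.subsingleton

include hdim in
/-- The Euler characteristic of an external product of invertible modules. -/
theorem euler_ext {M B : C.Modules} (hM : PicF.IsInvertible M) (hB : PicF.IsInvertible B) :
    Curv2.euler k (sq k C)
      (CohB1.tensorMod ((Scheme.Modules.pullback (pullback.fst (str k C) (str k C))).obj M)
        ((Scheme.Modules.pullback (pullback.snd (str k C) (str k C))).obj B)) =
      Curv2.euler k C M * Curv2.euler k C B := by
  haveI := isIntegral_curve k C
  obtain ⟨A, hA, hA0⟩ := exists_acyclic k hdim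
  have h0 : defect k C B A = 0 := by
    rw [defect, euler_extTwist_acyclic hA hA0 hB, EulerDeg.euler_of_isZero hA0, mul_zero, sub_self]
  obtain ⟨D, hD, hdD⟩ : ∃ T : C.Modules, PicF.IsInvertible T ∧
      (Curv2.genus k C : ℤ) + |Curv2.deg k C A 1| + |Curv2.deg k C M 1| ≤ Curv2.deg k C T 1 := by
    obtain ⟨x⟩ : Nonempty {x : Spec (CommRingCat.of k) ⟶ C // x ≫ str k C = 𝟙 _} := by
      haveI := CohC3.isNoetherian_of_proper k C
      obtain ⟨y, -, hy⟩ := (isClosed_univ (X := ↥C)).exists_closed_singleton Set.univ_nonempty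
      exact ⟨⟨_, pointOfClosedPoint_comp (str k C) y hy⟩⟩
    have hI := isInvertible_idealMod (isEffCartierIdeal_point hdim x.1 x.2)
    obtain ⟨P, hP, hPI⟩ := exists_isInverseOf hI
    refine ⟨CohB1.tensorPow P ((Curv2.genus k C : ℤ) + |Curv2.deg k C A 1| +
      |Curv2.deg k C M 1|).toNat, PicAux.isInvertible_tensorPow hP _, ?_⟩
    rw [VarietyBC.CurveDeg.deg_tensorPow k hdim.le hP, deg_point_inverse hdim x.1 x.2 hP (isInverseOf_symm' hPI), mul_one]
    exact Int.self_le_toNat _
  have a := abs_nonneg (Curv2.deg k C A 1)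
  have b := abs_nonneg (Curv2.deg k C M 1)
  have a' := le_abs_self (Curv2.deg k C A 1)
  have b' := le_abs_self (Curv2.deg k C M 1)
  obtain ⟨φ, hφ⟩ := exists_hom_ne_zero (k := k) hdim hA hD (by omega)
  obtain ⟨ψ, hψ⟩ := exists_hom_ne_zero (k := k) hdim hM hD (by omega)
  have h := (defect_eq_of_ne_zero hdim hB hM hD hψ).trans
    ((defect_eq_of_ne_zero hdim hB hA hD hφ).symm.trans h0)
  rw [defect, sub_eq_zero, mul_comm] at h
  exact h

end Defect

end Groth.HypSq
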