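import Groth.Prelude.Def_Curve
import Groth.Agent.CurveBridge.BaseChange
import Groth.Agent.Curves1.RR.EtaleGenusZero
import Groth.Agent.Curves1.RR.P1Facts
import Groth.Agent.Curves1.RR.RankOne
import Groth.Agent.Variety2.Reg.Ample
import Groth.Agent.PicAux.PullTensor
import Groth.Agent.Abvar.PicCalc
import Groth.Agent.AlgSp3.Density
import Groth.Agent.Variety2.ProjBasics
import Groth.Agent.Inter.Twist
import Groth.Agent.Inter.Chi
import Groth.Agent.Variety2.ProjDim
import Groth.Agent.SerreH0.Basic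
import Groth.Agent.Misc15.RankLe
import Groth.Agent.Cycles.SheafCyc
import Groth.Agent.HilbStab.BC.CurvBC
import Groth.Agent.S11336

/-!
# The powers of the pullback of `O(1)` along a double cover of the line
-/

set_option autoImplicit false
set_option linter.style.haveILetI false

universe u

open CategoryTheory CategoryTheory.Limits AlgebraicGeometry TopologicalSpace Opposite

namespace Groth.HypSq

open Groth.PicAux Groth.Inter

/-- The inverse image of `O(1)`. -/
noncomputable abbrev lb {k : Type u} [Field k] {C : Scheme.{u}} (κ : C ⟶ CohB1.ProjSpace 1 k) :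
    C.Modules :=
  (Scheme.Modules.pullback κ).obj (Twist.twistProjSpace 1 k 1)

/-- The `s`-th power of the inverse image of `O(1)`. -/
noncomputable abbrev lbPow {k : Type u} [Field k] {C : Scheme.{u}} (κ : C ⟶ CohB1.ProjSpace 1 k)
    (s : ℕ) : C.Modules :=
  CohB1.tensorPow (lb κ) s

variable {k : Type u} [Field k] [IsAlgClosed k] {C : Scheme.{u}}
  [C.Over (Spec (CommRingCat.of k))]

theorem isInvertible_lbPow (κ : C ⟶ CohB1.ProjSpace 1 k) (s : ℕ) :
    PicF.IsInvertible (lbPow κ s) :=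
  PicAux.isInvertible_tensorPow
    (PicAux.isInvertible_pullback κ (Chow.ToPn.twist_isInvertible (n := 1) (R := k))) s

theorem nonempty_lbPow_iso (κ : C ⟶ CohB1.ProjSpace 1 k) (s : ℕ) :
    Nonempty (lbPow κ s ≅ (Scheme.Modules.pullback κ).obj (Twist.twistProjSpace 1 k (s : ℤ))) := by
  obtain ⟨e⟩ := pullback_tensorPow κ (Twist.twistProjSpace 1 k 1) s
  obtain ⟨t⟩ := Variety2.Reg.nonempty_tensorPow_tw (n := 1) (k := k) 1 s
  exact ⟨e.symm ≪≫ (Scheme.Modules.pullback κ).mapIso (t ≪≫ eqToIso (by rw [one_mul]))⟩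

theorem isIntegral_curve (k : Type u) [Field k] (C : Scheme.{u}) [C.Over (Spec (CommRingCat.of k))]
    [IsProper (C ↘ Spec (CommRingCat.of k))] [Smooth (C ↘ Spec (CommRingCat.of k))]
    [ConnectedSpace ↥C] : IsIntegral C :=
  CurveBridge.isIntegral_of_smooth k C

theorem isRegCurve (k : Type u) [Field k] {C : Scheme.{u}} [C.Over (Spec (CommRingCat.of k))]
    [IsProper (C ↘ Spec (CommRingCat.of k))] [Smooth (C ↘ Spec (CommRingCat.of k))]
    [ConnectedSpace ↥C] (hdim : topologicalKrullDim ↥C = 1) : CurveBridge.IsRegCurve C :=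
  CurveBridge.isRegCurve_of_smooth k C hdim

variable [IsProper (C ↘ Spec (CommRingCat.of k))] [Smooth (C ↘ Spec (CommRingCat.of k))]
  [ConnectedSpace ↥C]

variable (hdim : topologicalKrullDim ↥C = 1)

include hdim in
theorem euler_structure : Curv2.euler k C (Coh.structureModule C) = 1 - Curv2.genus k C := by
  haveI := isIntegral_curve k C
  exact CurveBridge.euler_structure (isRegCurve k hdim)
    (CurveBridge.isFunctionField hdim)

include hdim in
theorem finrank_h0_structure : Module.finrank k (Coh.HH C (Coh.structureModule C) 0) = 1 := by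
  haveI := isIntegral_curve k C
  exact CurveBridge.finrank_h0_structure (isRegCurve k hdim)
    (CurveBridge.isFunctionField hdim)

include hdim in
theorem euler_line {M : C.Modules} (hM : PicF.IsInvertible M) :
    Curv2.euler k C M = Curv2.deg k C M 1 + 1 - Curv2.genus k C := by
  rw [EulerDeg.euler_eq_deg_add k M 1, euler_structure hdim]
  push_cast
  ring

variable (κ : C ⟶ CohB1.ProjSpace 1 k)
  (hκ : κ ≫ CohB1.ProjSpace.toSpec 1 k = (C ↘ Spec (CommRingCat.of k)))
  [IsFinite κ] [Flat κ] (hκ2 : ∀ y : ↥(CohB1.ProjSpace 1 k), κ.finrank y = 2)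

include hdim hκ hκ2 in
theorem deg_lbPow (s : ℕ) : Curv2.deg k C (lbPow κ s) 1 = 2 * (s : ℤ) := by
  haveI := isIntegral_curve k C
  letI : (CohB1.ProjSpace 1 k).Over (Spec (CommRingCat.of k)) := ⟨CohB1.ProjSpace.toSpec 1 k⟩
  haveI : IsProper ((CohB1.ProjSpace 1 k) ↘ Spec (CommRingCat.of k)) :=
    Variety2.isProper_projSpace_toSpec 1 k
  haveI : IsIntegral (CohB1.ProjSpace 1 k) := SerreH0.isIntegral_projSpace 1 k
  have hd1 : topologicalKrullDim ↥(CohB1.ProjSpace 1 k) ≤ 1 :=
    le_of_eq (by simpa using Variety2.PSpace.dim_projSpace (n := 1) (k := k))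
  obtain ⟨e⟩ := nonempty_lbPow_iso κ s
  have hT : PicF.IsInvertible (Twist.twistProjSpace 1 k (s : ℤ)) := by
    obtain ⟨t⟩ := Variety2.Reg.nonempty_tensorPow_tw (n := 1) (k := k) 1 s
    refine PicAux.isInvertible_of_iso (PicAux.isInvertible_tensorPow
      (Chow.ToPn.twist_isInvertible (n := 1) (R := k)) s) (t ≪≫ eqToIso (by rw [one_mul]))
  rw [EulerDeg.deg_congr k e, Curves1.RR.deg_pullback_finite k hd1 κ hκ 2 hκ2 hT]
  obtain ⟨e0⟩ := PnCoh.nonempty_twist_zero_iso (CohB1.polyGrading 1 k)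
  let e0' : Twist.twistProjSpace 1 k ((0 : ℕ) : ℤ) ≅ Coh.structureModule (CohB1.ProjSpace 1 k) := e0
  have h0 := Curves1.RR.euler_twist_P1 k 0
  rw [EulerDeg.euler_congr k e0'] at h0
  rw [Curv2.deg, Curves1.RR.euler_twist_P1 k s, h0]
  push_cast
  ring

include hdim hκ hκ2 in
theorem euler_lbPow (s : ℕ) :
    Curv2.euler k C (lbPow κ s) = 2 * (s : ℤ) - ((Curv2.genus k C : ℤ) - 1) := by
  rw [euler_line hdim (isInvertible_lbPow κ s), deg_lbPow hdim κ hκ hκ2 s]
  ring

include hdim hκ hκ2 in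
theorem le_h0_lbPow (s : ℕ) : s + 1 ≤ Module.finrank k (Coh.HH C (lbPow κ s) 0) := by
  letI : (CohB1.ProjSpace 1 k).Over (Spec (CommRingCat.of k)) := ⟨CohB1.ProjSpace.toSpec 1 k⟩
  haveI : IsProper ((CohB1.ProjSpace 1 k) ↘ Spec (CommRingCat.of k)) :=
    Variety2.isProper_projSpace_toSpec 1 k
  haveI : Surjective κ := (Scheme.Hom.one_le_finrank_iff_surjective κ).1 fun y => by
    rw [hκ2 y]; exact one_le_two
  obtain ⟨e⟩ := nonempty_lbPow_iso κ s
  let T := Twist.twistProjSpace 1 k (s : ℤ)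
  have hT : PicF.IsInvertible T := by
    obtain ⟨t⟩ := Variety2.Reg.nonempty_tensorPow_tw (n := 1) (k := k) 1 s
    refine PicAux.isInvertible_of_iso (PicAux.isInvertible_tensorPow
      (Chow.ToPn.twist_isInvertible (n := 1) (R := k)) s) (t ≪≫ eqToIso (by rw [one_mul]))
  let u : Coh.structureModule (CohB1.ProjSpace 1 k) ⟶
      (Scheme.Modules.pushforward κ).obj (Coh.structureModule C) := ClSub.unitToPush κ
  haveI : Mono u := by
    refine Misc15.mono_of_app_injective _ fun U => ?_
    exact AlgSp3.app_injective_of_flat_surjective κ U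
  have hS : (ShortComplex.mk u (cokernel.π u) (cokernel.condition u)).ShortExact :=
    { exact := ShortComplex.exact_cokernel u }
  have hm := (PicAux.shortExact_tensorRightMod hT hS).mono_f
  obtain ⟨π, -⟩ := PnCoh.exists_projectionFormula κ (Coh.structureModule C) hT
  obtain ⟨l, -⟩ := exists_leftUnitor ((Scheme.Modules.pullback κ).obj T)
  obtain ⟨l', -⟩ := exists_leftUnitor T
  haveI : Mono ((DCoh.tensorRightMod T).map u) := hm
  have hinj := Curves1.RR.hMap_injective_zero_of_mono k ((DCoh.tensorRightMod T).map u)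
  haveI : ((Scheme.Modules.pullback κ).obj T).IsQuasicoherent :=
    (EulerDeg.isCoh_of_isInvertible (PicAux.isInvertible_pullback κ hT)).1
  haveI : CompactSpace C := QuasiCompact.compactSpace_of_compactSpace (C ↘ Spec (CommRingCat.of k))
  haveI := HilbStab.BC.isSeparated_of_proper k C
  haveI := HilbStab.BC.isSeparated_of_proper k (CohB1.ProjSpace 1 k)
  obtain ⟨p⟩ := CohFin.nonempty_linearEquiv_push κ (CohB1.ProjSpace.toSpec 1 k) 0
    ((Scheme.Modules.pullback κ).obj T)
  have hp := p.finrank_eq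
  rw [hκ] at hp
  haveI : Module.Finite k (Coh.HH C ((Scheme.Modules.pullback κ).obj T) 0) :=
    (Inter.finCoh k (EulerDeg.isCoh_of_isInvertible (PicAux.isInvertible_pullback κ hT))).1 0
  have e1 : (DCoh.tensorRightMod T).obj ((Scheme.Modules.pushforward κ).obj (Coh.structureModule C)) ≅
      (Scheme.Modules.pushforward κ).obj ((Scheme.Modules.pullback κ).obj T) :=
    π ≪≫ (Scheme.Modules.pushforward κ).mapIso l
  have hcoh : Coh.IsCoh ((Scheme.Modules.pushforward κ).obj ((Scheme.Modules.pullback κ).obj T)) :=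
    Cycles.isCoh_push_of_isFinite κ (EulerDeg.isCoh_of_isInvertible (PicAux.isInvertible_pullback κ hT))
  haveI := (Inter.finCoh k hcoh).1 0
  have hj : Function.Injective ((EulerDeg.hEquiv k e1 0).toLinearMap ∘ₗ
      (EulerDeg.hMap k ((DCoh.tensorRightMod T).map u) 0)) :=
    (EulerDeg.hEquiv k e1 0).injective.comp hinj
  have := LinearMap.finrank_le_finrank_of_injective hj
  rw [EulerDeg.finrank_congr e 0]
  change _ ≤ Module.finrank k (Coh.HH C ((Scheme.Modules.pullback κ).obj T) 0)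
  rw [show Module.finrank k (Coh.HH C ((Scheme.Modules.pullback κ).obj T) 0) =
    Module.finrank k (Coh.HH (CohB1.ProjSpace 1 k)
      ((Scheme.Modules.pushforward κ).obj ((Scheme.Modules.pullback κ).obj T)) 0) from hp.symm]
  refine le_trans (le_of_eq ?_) this
  show s + 1 = Module.finrank k (Coh.HH (CohB1.ProjSpace 1 k)
    (CohB1.tensorMod (Coh.structureModule (CohB1.ProjSpace 1 k)) T) 0)
  rw [EulerDeg.finrank_congr l' 0]
  show s + 1 = Module.finrank k (Coh.HH (CohB1.ProjSpace 1 k) (Twist.twistProjSpace 1 k (s : ℤ)) 0)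
  rw [PnCoh.finrank_h0 k 1 s, ← Nat.choose_symm_add (a := 1) (b := s), Nat.choose_one_right]
  omega

include hdim hκ hκ2 in
/-- The canonical module is the power `g - 1` of the inverse image of `O(1)`. -/
theorem nonempty_lbPow_iso_omega {γ : ℕ} (hγ : γ + 1 = Curv2.genus k C) :
    Nonempty (lbPow κ γ ≅ Omega.sheaf (C ↘ Spec (CommRingCat.of k))) := by
  haveI := isIntegral_curve k C
  have h := isRegCurve k hdim
  have hK := CurveBridge.isFunctionField (k := k) (X := C) hdim
  obtain ⟨n0, -, nd⟩ := CurveBridge.omega_numerics (k := k) h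
  refine CurveBridge.nonempty_iso_of_canonical_numerics h hK (isInvertible_lbPow κ γ)
    (CurveBridge.isInvertible_omega hK) (hγ ▸ le_h0_lbPow hdim κ hκ hκ2 γ) ?_ n0.ge nd
  rw [deg_lbPow hdim κ hκ hκ2 γ, ← hγ]
  push_cast
  ring

theorem nonempty_tensorPow_add {X : Scheme.{u}} {L : X.Modules} (hL : PicF.IsInvertible L) (a b : ℕ) :
    Nonempty (CohB1.tensorMod (CohB1.tensorPow L a) (CohB1.tensorPow L b) ≅
      CohB1.tensorPow L (a + b)) := by
  open Groth.Abvar.PicCalc in
  rw [nonempty_iso_iff (PicAux.isInvertible_tensorMod (PicAux.isInvertible_tensorPow hL a)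
      (PicAux.isInvertible_tensorPow hL b)) (PicAux.isInvertible_tensorPow hL (a + b)),
    cls_tensorMod (PicAux.isInvertible_tensorPow hL a) (PicAux.isInvertible_tensorPow hL b),
    cls_tensorPow hL, cls_tensorPow hL, cls_tensorPow hL, pow_add]

include hdim hκ hκ2 in
/-- Below the canonical degree the powers of the inverse image of `O(1)` have `s + 1` sections. -/
theorem h0_lbPow_of_le {s : ℕ} (hs : s + 1 ≤ Curv2.genus k C) :
    Module.finrank k (Coh.HH C (lbPow κ s) 0) = s + 1 := by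
  haveI := isIntegral_curve k C
  have h := isRegCurve k hdim
  obtain ⟨t, ht⟩ := Nat.exists_eq_add_of_le hs
  obtain ⟨eΩ⟩ := nonempty_lbPow_iso_omega hdim κ hκ hκ2 (γ := s + t) (by omega)
  have hlow := le_h0_lbPow hdim κ hκ hκ2
  refine le_antisymm ?_ (hlow s)
  obtain ⟨M, hM, hLM⟩ := exists_isInverseOf (isInvertible_lbPow κ s)
  have hl : PicF.IsInvertible (lb κ) :=
    PicAux.isInvertible_pullback κ (Chow.ToPn.twist_isInvertible (n := 1) (R := k))
  obtain ⟨ea⟩ := nonempty_tensorPow_add hl t s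
  have e : Nonempty (CohB1.tensorMod (Omega.sheaf (C ↘ Spec (CommRingCat.of k))) M ≅ lbPow κ t) :=
    ⟨(tensor_congr ⟨eΩ.symm ≪≫ eqToIso (by rw [Nat.add_comm])⟩ ⟨Iso.refl M⟩).some ≪≫
      (tensor_congr ⟨ea.symm⟩ ⟨Iso.refl M⟩).some ≪≫ (tensor_assoc _ _ _).some ≪≫
      (tensor_congr ⟨Iso.refl _⟩ hLM).some ≪≫ (tensor_comm _ _).some ≪≫ (tensor_one _).some⟩
  have hnt : ∀ r : ℕ, Nontrivial (Coh.HH C (lbPow κ r) 0) := fun r =>
    Module.nontrivial_of_finrank_pos (R := k) (lt_of_lt_of_le (Nat.succ_pos r) (hlow r))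
  have hsp : Nontrivial (Coh.HH C
      (CohB1.tensorMod (Omega.sheaf (C ↘ Spec (CommRingCat.of k))) M) 0) := by
    have := hnt t
    exact (EulerDeg.hEquiv k e.some 0).toEquiv.nontrivial
  have hc := Groth.Agent.S11336.result k C hdim h.reg (lbPow κ s) M (isInvertible_lbPow κ s)
    hLM (hnt s) hsp
  rw [deg_lbPow hdim κ hκ hκ2 s] at hc
  omega

include hdim hκ hκ2 in
theorem subsingleton_h1_lbPow {s : ℕ} (hs : Curv2.genus k C ≤ s) :
    Subsingleton (Coh.HH C (lbPow κ s) 1) := by
  haveI := isIntegral_curve k C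
  refine CurveBridge.subsingleton_h1_of_deg_gt (isRegCurve k hdim)
    (CurveBridge.isFunctionField (k := k) hdim) (isInvertible_lbPow κ s) ?_
  rw [deg_lbPow hdim κ hκ hκ2 s]
  omega

end Groth.HypSq
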