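import Groth.Agent.HypSq.Curve
import Groth.Agent.Flatmor4.FiniteDominant
import Groth.Agent.BTExact.FinrankComp

/-!
# Deck endomorphisms of a double cover are isomorphisms
-/

set_option autoImplicit false
set_option linter.style.haveILetI false
set_option linter.unusedSectionVars false

universe u

open CategoryTheory CategoryTheory.Limits AlgebraicGeometry TopologicalSpace Opposite

namespace Groth.HypSq

theorem isIso_deck (k : Type u) [Field k] [IsAlgClosed k] {C : Scheme.{u}}
    [C.Over (Spec (CommRingCat.of k))] [IsProper (C ↘ Spec (CommRingCat.of k))]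
    [Smooth (C ↘ Spec (CommRingCat.of k))] [ConnectedSpace ↥C]
    (hdim : topologicalKrullDim ↥C = 1) (κ : C ⟶ CohB1.ProjSpace 1 k) [IsFinite κ] [Flat κ]
    (hκ2 : ∀ y : ↥(CohB1.ProjSpace 1 k), κ.finrank y = 2) (σ : C ⟶ C) (hσ : σ ≫ κ = κ) :
    IsIso σ := by
  haveI := isIntegral_curve k C
  haveI hP : IsIntegral (CohB1.ProjSpace 1 k) := SerreH0.isIntegral_projSpace 1 k
  haveI : IsFinite (σ ≫ κ) := by rw [hσ]; infer_instance
  haveI : IsFinite σ := IsFinite.of_comp σ κ
  haveI : Surjective κ := (Scheme.Hom.one_le_finrank_iff_surjective κ).1 fun y => by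
    rw [hκ2 y]; exact one_le_two
  have hgen : σ (genericPoint C) = genericPoint C := by
    by_contra hne
    have hc : IsClosed ({σ (genericPoint C)} : Set C) := by
      by_contra hnc
      exact hne (@EulerDeg.eq_of_specializes_of_not_isClosed C.toTopCat (inferInstanceAs (T0Space C))
        (inferInstanceAs (QuasiSober C)) hdim.le _ (genericPoint C) hnc
        ((genericPoint_spec C).specializes trivial)).symm
    have hconst : ∀ z : C, σ z = σ (genericPoint C) := fun z => by
      have := ((genericPoint_spec C).specializes (Set.mem_univ z)).map σ.continuous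
      simpa [hc.closure_eq] using specializes_iff_mem_closure.1 this
    have : Subsingleton ↥(CohB1.ProjSpace 1 k) := ⟨fun a b => by
      obtain ⟨a, rfl⟩ := κ.surjective a
      obtain ⟨b, rfl⟩ := κ.surjective b
      rw [← hσ, Scheme.Hom.comp_apply, Scheme.Hom.comp_apply, hconst a, hconst b]⟩
    have h1 := Variety2.PSpace.dim_projSpace (n := 1) (k := k)
    have h0 := topologicalKrullDim_zero_of_discreteTopology ↥(CohB1.ProjSpace 1 k)
    rw [h1] at h0
    exact absurd h0 (by simp)
  have hmax : ∀ η : C, IsMax η → IsMax (σ η) := fun η hη => by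
    have hs : genericPoint C ⤳ η := (genericPoint_spec C).specializes trivial
    have h1 : η ⤳ genericPoint C := hη (show η ≤ genericPoint C from hs)
    have : η = genericPoint C := (h1.antisymm hs).eq
    subst this
    rw [hgen]
    exact hη
  have hreg := (isRegCurve k hdim).reg
  haveI : Flat σ := Groth.Flatmor4.flat_of_finite_of_isMax σ hreg hreg hmax
  haveI := CohC3.isNoetherian_of_proper k C
  haveI : LocallyOfFinitePresentation σ := inferInstance
  rw [Scheme.Hom.isIso_iff_finrank_eq]
  have hl := Scheme.Hom.isLocallyConstant_finrank σ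
  ext y
  have h2 := Groth.BTExact.finrank_comp σ κ (σ.finrank y)
    (fun z => hl.apply_eq_of_isPreconnected isPreconnected_univ (Set.mem_univ z) (Set.mem_univ y))
    (κ y)
  simp only [hσ, hκ2] at h2
  change σ.finrank y = 1
  omega

end Groth.HypSq
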