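import Groth.Agent.Inter.SectionDivisor
import Groth.Agent.Inter.Positive
import Groth.Agent.WeilCoh.Geom
import Groth.Agent.ZetaAn.ProdCurves

/-!
# A section of degree zero against an ample class has no zeros
-/

set_option autoImplicit false
set_option linter.style.haveILetI false
set_option linter.unusedSectionVars false

universe u

open CategoryTheory CategoryTheory.Limits AlgebraicGeometry TopologicalSpace Opposite

namespace Groth.HypSq

open Groth.PicAux Groth.Inter

/-- External products of ample modules are ample. -/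
theorem isAmple_ext {k : Type u} [Field k] {X Y : Scheme.{u}} (f : X ⟶ Spec (CommRingCat.of k))
    (g : Y ⟶ Spec (CommRingCat.of k)) [IsProper f] [IsProper g] {L₁ : X.Modules} {L₂ : Y.Modules}
    (h₁ : CohB1.IsAmple L₁) (h₂ : CohB1.IsAmple L₂) :
    CohB1.IsAmple (CohB1.tensorMod ((Scheme.Modules.pullback (pullback.fst f g)).obj L₁)
      ((Scheme.Modules.pullback (pullback.snd f g)).obj L₂)) := by
  haveI : IsLocallyNoetherian X := LocallyOfFiniteType.isLocallyNoetherian f
  haveI : IsLocallyNoetherian Y := LocallyOfFiniteType.isLocallyNoetherian g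
  haveI : CompactSpace X := QuasiCompact.compactSpace_of_compactSpace f
  haveI : CompactSpace Y := QuasiCompact.compactSpace_of_compactSpace g
  haveI : IsNoetherian X := ⟨⟩
  haveI : IsNoetherian Y := ⟨⟩
  haveI : X.IsSeparated := ⟨by rw [← terminal.comp_from f]; infer_instance⟩
  haveI : Y.IsSeparated := ⟨by rw [← terminal.comp_from g]; infer_instance⟩
  have key : ∀ f' g', f ≫ 𝟙 _ = f' → g ≫ 𝟙 _ = g' →
      CohB1.IsAmple (CohB1.tensorMod ((Scheme.Modules.pullback (pullback.fst f' g')).obj L₁)
        ((Scheme.Modules.pullback (pullback.snd f' g')).obj L₂)) := by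
    rintro _ _ rfl rfl
    have h := Groth.Agent.S4428.result (𝟙 _) (𝟙 _) f g L₁ L₂
      ((Groth.Agent.S4381.result f L₁).2 h₁) ((Groth.Agent.S4381.result g L₂).2 h₂)
    have : IsAffine (pullback (𝟙 (Spec (CommRingCat.of k))) (𝟙 (Spec (CommRingCat.of k)))) :=
      .of_isIso (pullback.fst _ _)
    exact (Groth.Agent.S4381.result _ _).1 h
  exact key f g (Category.comp_id f) (Category.comp_id g)

variable (k : Type u) [Field k] {X : Scheme.{u}} [X.Over (Spec (CommRingCat.of k))]
  [IsProper (X ↘ Spec (CommRingCat.of k))] [IsIntegral X] (hdim : topologicalKrullDim X = 2)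

include hdim in
/-- A nonzero map of invertible modules of the same degree against an ample class is an
isomorphism. -/
theorem isIso_of_pair_eq {A : X.Modules} (hA : CohB1.IsAmple A) {N L : X.Modules}
    (hN : PicF.IsInvertible N) (hL : PicF.IsInvertible L) {φ : N ⟶ L} (hφ : φ ≠ 0)
    (he : pair k N A = pair k L A) : IsIso φ := by
  have := isNoetherian k (X := X)
  haveI := EulerDeg.mono_of_ne_zero hN hL hφ
  haveI := (isCoh_of_isInvertible hN).1
  have hQ : Coh.IsCoh (cokernel φ) := QCohMod.isCoh_cokernel φ (isCoh_of_isInvertible hL)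
  suffices hz : IsZero (cokernel φ) by
    have : Epi φ := Preadditive.epi_of_cokernel_zero (hz.eq_of_tgt _ _)
    exact isIso_of_mono_of_epi φ
  refine (QCohMod.isZero_iff_support_eq_empty _).2 (Set.eq_empty_iff_forall_notMem.2 fun x hx => ?_)
  obtain ⟨A', -, hAA'⟩ := exists_isInverseOf hA.1
  have hA' : IsAmpleInv A' := ⟨A, hA, hAA'⟩
  have hcl := CohTwo.isClosed_support _ hQ
  have hlt : topologicalKrullDim (CohB1.support (cokernel φ)) ≤ (1 : ℕ) := by
    refine lt_natCast_succ_iff.1 (lt_of_lt_of_eq (LocCohTransform.topologicalKrullDim_lt_of_ssubset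
      (Set.subset_univ _) (fun h => ?_) hcl isClosed_univ
      (IrreducibleSpace.isIrreducible_univ X) ?_) ?_)
    · exact CohTwo.notMem_support_cokernel φ (genericPoint X)
        (EulerDeg.surjective_stalk_genericPoint hN hL hφ) (h trivial)
    · rw [IsHomeomorph.topologicalKrullDim_eq _ (Homeomorph.Set.univ X).isHomeomorph, hdim]
      exact WithBot.coe_lt_coe.2 (ENat.natCast_lt_top _)
    · rw [IsHomeomorph.topologicalKrullDim_eq _ (Homeomorph.Set.univ X).isHomeomorph, hdim]
      rfl
  obtain ⟨y, hy, hh⟩ := Inter.exists_height_of_cokernel k hN hL hφ hx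
  have hge : ((1 : ℕ) : WithBot ℕ∞) ≤ topologicalKrullDim (CohB1.support (cokernel φ)) := by
    refine le_trans ?_ (LocCohTransform.topologicalKrullDim_mono
      (closure_minimal (Set.singleton_subset_iff.2 hy) hcl))
    rw [WeilCoh.topologicalKrullDim_closure_eq_height y]
    rw [hdim] at hh
    have h2 : ((2 : ℕ∞)) ≤ Order.height y + 1 := WithBot.coe_le_coe.1 hh
    refine WithBot.coe_le_coe.2 ?_
    exact (ENat.add_le_add_iff_right ENat.one_ne_top).1 (by rw [Nat.cast_one, one_add_one_eq_two]; exact h2)
  have hpos := delta_pos k [A'] (by simpa using hA') _ hQ (le_antisymm hlt hge)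
  have hadd := delta_add k (l := [A']) (by simpa using hA'.isInvertible)
    (CohTwo.cokerSeq_shortExact φ) (isCoh_of_isInvertible hN) hQ
  have e : ∀ M : X.Modules, PicF.IsInvertible M →
      - pair k M A = delta k [A'] (Coh.structureModule X) - delta k [A'] M := fun M hM => by
    rw [← pair_comm k A, ← pair_inverse k hdim.le hA.1 hAA' hM, pair_comm k A', Inter.pair, delta_cons,
      delta_congr k _ (G := M) ⟨(tensor_comm _ _).some ≪≫ (tensor_one _).some⟩]
  have e1 := e N hN
  have e2 := e L hL
  change delta k [A'] L = delta k [A'] N + delta k [A'] _ at hadd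
  linarith

end Groth.HypSq
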