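import Groth.Agent.HypSq.Chi
import Groth.Agent.CohC3.HMap
import Groth.Agent.CohC3.GradedVanishing
import Groth.Agent.CohC3.ProperSupport

/-!
# Cohomology along the restriction sequence of a closed curve
-/

set_option autoImplicit false
set_option linter.style.haveILetI false
set_option linter.unusedSectionVars false

universe u

open CategoryTheory CategoryTheory.Limits AlgebraicGeometry TopologicalSpace Opposite

namespace Groth.HypSq

open Groth.PicAux Groth.Inter

section Seq

variable (k : Type u) [Field k] {X : Scheme.{u}} [X.Over (Spec (CommRingCat.of k))]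
  [IsProper (X ↘ Spec (CommRingCat.of k))] {S : ShortComplex X.Modules} (hS : S.ShortExact)

include hS in
theorem hmap_g_f {p : ℕ} (x : Coh.HH X S.X₁ p) :
    CohC3.hmap k S.g p (CohC3.hmap k S.f p x) = 0 := by
  rw [CohC3.hmap_comp, S.zero, CohC3.hmap_zero]

include hS in
theorem finrank_h0_add (h₂ : Coh.IsCoh S.X₂) (h : Subsingleton (Coh.HH X S.X₁ 1)) :
    Module.finrank k (Coh.HH X S.X₂ 0) =
      Module.finrank k (Coh.HH X S.X₁ 0) + Module.finrank k (Coh.HH X S.X₃ 0) := by
  haveI := (Inter.finCoh k h₂).finite 0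
  haveI := hS.mono_f
  let f := CohC3.hmap k S.f 0
  let g := CohC3.hmap k S.g 0
  have hf : Function.Injective f := Curves1.RR.hMap_injective_zero_of_mono k S.f
  have hg : LinearMap.range g = ⊤ := LinearMap.range_eq_top.2 fun x =>
    CohC3.exists_of_hdelta_eq_zero (A := k) hS x (Subsingleton.elim _ _)
  have hk : LinearMap.ker g = LinearMap.range f := le_antisymm
    (fun x hx => CohC3.exists_of_hmap_g_eq_zero (A := k) hS x hx)
    (by rintro _ ⟨x, rfl⟩; exact hmap_g_f k hS x)
  have e := g.finrank_range_add_finrank_ker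
  rw [hg, hk, finrank_top, LinearMap.finrank_range_of_inj hf] at e
  omega

include hS in
theorem finrank_h0_eq (h : Subsingleton (Coh.HH X S.X₃ 0)) :
    Module.finrank k (Coh.HH X S.X₂ 0) = Module.finrank k (Coh.HH X S.X₁ 0) := by
  haveI := hS.mono_f
  exact (LinearEquiv.ofBijective (CohC3.hmap k S.f 0)
    ⟨Curves1.RR.hMap_injective_zero_of_mono k S.f,
      fun x => CohC3.exists_of_hmap_g_eq_zero (A := k) hS x (Subsingleton.elim _ _)⟩).finrank_eq.symm

include hS in
theorem finrank_h1_eq (h : Subsingleton (Coh.HH X S.X₁ 1)) (h' : Subsingleton (Coh.HH X S.X₁ 2)) :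
    Module.finrank k (Coh.HH X S.X₂ 1) = Module.finrank k (Coh.HH X S.X₃ 1) := by
  refine (LinearEquiv.ofBijective (CohC3.hmap k S.g 1)
    ⟨(injective_iff_map_eq_zero _).2 fun x hx => ?_,
      fun x => CohC3.exists_of_hdelta_eq_zero (A := k) hS x (Subsingleton.elim _ _)⟩).finrank_eq
  obtain ⟨y, rfl⟩ := CohC3.exists_of_hmap_g_eq_zero (A := k) hS x hx
  rw [Subsingleton.elim y 0, map_zero]

end Seq

section Restrict

variable {k : Type u} [Field k] {X C : Scheme.{u}} [X.Over (Spec (CommRingCat.of k))]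
  [C.Over (Spec (CommRingCat.of k))] [IsProper (X ↘ Spec (CommRingCat.of k))]
  (i : C ⟶ X) [IsClosedImmersion i]
  (hio : i ≫ (X ↘ Spec (CommRingCat.of k)) = C ↘ Spec (CommRingCat.of k))

/-- The restriction sequence of a twist. -/
theorem exists_restrictSeq {B : X.Modules} (hB : PicF.IsInvertible B) :
    ∃ S : ShortComplex X.Modules, S.ShortExact ∧
      Nonempty (S.X₁ ≅ CohB1.tensorMod (ClSub.idealMod i.ker) B) ∧ Nonempty (S.X₂ ≅ B) ∧
      Nonempty (S.X₃ ≅ (Coh.push i).obj ((Scheme.Modules.pullback i).obj B)) := by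
  obtain ⟨e⟩ := ZetaAn.ProdCurves.quotMod_ker_iso i
  obtain ⟨p⟩ := tensor_push i hB (Coh.structureModule C)
  exact ⟨_, shortExact_idealMod_twist i.ker hB, ⟨Iso.refl _⟩, ⟨(tensor_one B).some⟩,
    ⟨(tensor_comm (ClSub.quotMod i.ker) B).some ≪≫ (tensor_congr ⟨Iso.refl B⟩ ⟨e⟩).some ≪≫ p ≪≫
      (Coh.push i).mapIso ((tensor_comm _ _).some ≪≫ (tensor_one _).some)⟩⟩

include hio in
theorem push_cohomology (M : C.Modules) (n : ℕ) :
    (Subsingleton (Coh.HH C M n) → Subsingleton (Coh.HH X ((Coh.push i).obj M) n)) ∧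
      Module.finrank k (Coh.HH X ((Coh.push i).obj M) n) = Module.finrank k (Coh.HH C M n) := by
  obtain ⟨p⟩ := CohC3.nonempty_linearEquiv_push_closed i (X ↘ Spec (CommRingCat.of k)) n M
  refine ⟨fun h => @Equiv.subsingleton _ _ p.toEquiv h, ?_⟩
  have hp := p.finrank_eq
  rw [hio] at hp
  exact hp

variable {B : X.Modules} (hB : PicF.IsInvertible B)

include hio hB in
theorem subsingleton_of_restrict {q : ℕ}
    (h₁ : Subsingleton (Coh.HH X (CohB1.tensorMod (ClSub.idealMod i.ker) B) q))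
    (h₂ : Subsingleton (Coh.HH C ((Scheme.Modules.pullback i).obj B) q)) :
    Subsingleton (Coh.HH X B q) := by
  obtain ⟨S, hS, ⟨a⟩, ⟨b⟩, ⟨c⟩⟩ := exists_restrictSeq i hB
  haveI := (push_cohomology (k := k) i hio _ q).1 h₂
  have := CohC3.subsingleton_HH_X₂ (A := k) hS (q := q)
    (EulerDeg.hEquiv k a q).toEquiv.subsingleton (EulerDeg.hEquiv k c q).toEquiv.subsingleton
  exact (EulerDeg.hEquiv k b.symm q).toEquiv.subsingleton

include hio hB in
theorem finrank_h0_restrict_add
    (h : Subsingleton (Coh.HH X (CohB1.tensorMod (ClSub.idealMod i.ker) B) 1)) :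
    Module.finrank k (Coh.HH X B 0) =
      Module.finrank k (Coh.HH X (CohB1.tensorMod (ClSub.idealMod i.ker) B) 0) +
        Module.finrank k (Coh.HH C ((Scheme.Modules.pullback i).obj B) 0) := by
  obtain ⟨S, hS, ⟨a⟩, ⟨b⟩, ⟨c⟩⟩ := exists_restrictSeq i hB
  have := finrank_h0_add k hS (QCohMod.isCoh_of_iso b.symm (Inter.isCoh_of_isInvertible hB))
    (EulerDeg.hEquiv k a 1).toEquiv.subsingleton
  rw [EulerDeg.finrank_congr a 0, EulerDeg.finrank_congr b 0, EulerDeg.finrank_congr c 0,
    (push_cohomology (k := k) i hio _ 0).2] at this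
  exact this

include hio hB in
theorem finrank_h0_restrict_eq
    (h : Subsingleton (Coh.HH C ((Scheme.Modules.pullback i).obj B) 0)) :
    Module.finrank k (Coh.HH X B 0) =
      Module.finrank k (Coh.HH X (CohB1.tensorMod (ClSub.idealMod i.ker) B) 0) := by
  obtain ⟨S, hS, ⟨a⟩, ⟨b⟩, ⟨c⟩⟩ := exists_restrictSeq i hB
  haveI := (push_cohomology (k := k) i hio _ 0).1 h
  have := finrank_h0_eq k hS (EulerDeg.hEquiv k c 0).toEquiv.subsingleton
  rwa [EulerDeg.finrank_congr a 0, EulerDeg.finrank_congr b 0] at this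

include hio hB in
theorem finrank_h1_restrict_eq
    (h : Subsingleton (Coh.HH X (CohB1.tensorMod (ClSub.idealMod i.ker) B) 1))
    (h' : Subsingleton (Coh.HH X (CohB1.tensorMod (ClSub.idealMod i.ker) B) 2)) :
    Module.finrank k (Coh.HH X B 1) =
      Module.finrank k (Coh.HH C ((Scheme.Modules.pullback i).obj B) 1) := by
  obtain ⟨S, hS, ⟨a⟩, ⟨b⟩, ⟨c⟩⟩ := exists_restrictSeq i hB
  have := finrank_h1_eq k hS (EulerDeg.hEquiv k a 1).toEquiv.subsingleton
    (EulerDeg.hEquiv k a 2).toEquiv.subsingleton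
  rwa [EulerDeg.finrank_congr b 1, EulerDeg.finrank_congr c 1,
    (push_cohomology (k := k) i hio _ 1).2] at this

end Restrict

end Groth.HypSq
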