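import Groth.Agent.HypSq.Formula
import Groth.Agent.HypSq.Restrict
import Groth.Agent.HypSq.Positivity

/-!
# The class of the diagonal on the square of a curve of genus zero
-/

set_option autoImplicit false
set_option linter.style.haveILetI false
set_option linter.unusedSectionVars false

universe u

open CategoryTheory CategoryTheory.Limits AlgebraicGeometry TopologicalSpace Opposite

namespace Groth.HypSq

open Groth.PicAux Groth.Inter
open scoped Groth.Abvar.PicCalc
open Groth.Abvar.PicCalc (cls pull pull_cls nonempty_iso_iff cls_tensorMod cls_tensorPow)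

variable {k : Type u} [Field k] [IsAlgClosed k] {C : Scheme.{u}} [C.Over (Spec (CommRingCat.of k))]
  [IsProper (C ↘ Spec (CommRingCat.of k))] [Smooth (C ↘ Spec (CommRingCat.of k))] [ConnectedSpace ↥C]
  (hdim : topologicalKrullDim ↥C = 1)

/-- The external product of two modules. -/
noncomputable abbrev ext' (M M' : C.Modules) : (sq k C).Modules :=
  CohB1.tensorMod ((Scheme.Modules.pullback (pullback.fst (str k C) (str k C))).obj M)
    ((Scheme.Modules.pullback (pullback.snd (str k C) (str k C))).obj M')

theorem isInvertible_ext {M M' : C.Modules} (hM : PicF.IsInvertible M)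
    (hM' : PicF.IsInvertible M') : PicF.IsInvertible (ext' (k := k) M M') :=
  PicAux.isInvertible_tensorMod (PicAux.isInvertible_pullback _ hM)
    (PicAux.isInvertible_pullback _ hM')

theorem cls_ext_mul {T T' : C.Modules} (hT : PicF.IsInvertible T) (hT' : PicF.IsInvertible T')
    (h : ClSub.IsInverseOf T T') :
    cls (isInvertible_ext (k := k) hT' hT') * cls (isInvertible_ext (k := k) hT hT) = 1 := by
  rw [cls_tensorMod (PicAux.isInvertible_pullback _ hT') (PicAux.isInvertible_pullback _ hT'),
    cls_tensorMod (PicAux.isInvertible_pullback _ hT) (PicAux.isInvertible_pullback _ hT),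
    ← pull_cls _ hT', ← pull_cls _ hT', ← pull_cls _ hT, ← pull_cls _ hT, mul_mul_mul_comm,
    ← map_mul, ← map_mul, cls_mul_eq_one hT' hT (isInverseOf_symm' h), map_one, map_one, one_mul]

theorem pair_eq_euler {X : Scheme.{u}} [X.Over (Spec (CommRingCat.of k))] (A B : X.Modules) :
    pair k A B = Curv2.euler k X (Coh.structureModule X) - Curv2.euler k X A - Curv2.euler k X B +
      Curv2.euler k X (CohB1.tensorMod A B) := by
  rw [Inter.pair, delta_cons, delta_cons, delta_cons, delta_nil, delta_nil, delta_nil, delta_nil,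
    EulerDeg.euler_congr k ((tensor_comm A _).some ≪≫ (tensor_one A).some),
    EulerDeg.euler_congr k ((tensor_comm B _).some ≪≫ (tensor_one B).some),
    EulerDeg.euler_congr k ((tensor_comm B (CohB1.tensorMod A (Coh.structureModule X))).some ≪≫
      (tensor_congr ⟨(tensor_comm A _).some ≪≫ (tensor_one A).some⟩ ⟨Iso.refl B⟩).some)]
  ring

include hdim in
theorem deg_pullback_diag_inverse {N : (sq k C).Modules} (hN : PicF.IsInvertible N)
    (hNinv : ClSub.IsInverseOf N (ClSub.idealMod (pullback.diagonal (str k C)).ker)) :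
    Curv2.deg k C ((Scheme.Modules.pullback (pullback.diagonal (str k C))).obj N) 1 =
      2 - 2 * (Curv2.genus k C : ℤ) := by
  haveI := isIntegral_curve k C
  obtain ⟨-, -, nd⟩ := CurveBridge.omega_numerics (k := k) (isRegCurve k hdim)
  haveI : IsClosedImmersion (pullback.diagonal (str k C)) :=
    isClosedImmersion_graph (k := k) (𝟙 C) (Category.id_comp _)
  have hD : BlowUp.IsEffCartierIdeal (pullback.diagonal (str k C)).ker :=
    isEffCartierIdeal_of_section hdim _ (pullback.diagonal_fst _)
  have hΩ : PicF.IsInvertible ((Scheme.Modules.pullback (pullback.diagonal (str k C))).obj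
      (ClSub.idealMod (pullback.diagonal (str k C)).ker)) :=
    PicAux.isInvertible_pullback _ (isInvertible_idealMod hD)
  rw [deg_inverse hdim (PicAux.isInvertible_pullback _ hN) hΩ
    (PicAux.isInverseOf_pullback _ hNinv)]
  change - Curv2.deg k C (Omega.sheaf (C ↘ Spec (CommRingCat.of k))) 1 = _
  rw [nd]
  ring

include hdim in
/-- In genus zero the diagonal has class `(1, 1)`. -/
theorem nonempty_diag_iso (hg : Curv2.genus k C = 0) {T : C.Modules} (hT : PicF.IsInvertible T)
    (hTd : Curv2.deg k C T 1 = 1) {N : (sq k C).Modules} (hN : PicF.IsInvertible N)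
    (hNinv : ClSub.IsInverseOf N (ClSub.idealMod (pullback.diagonal (str k C)).ker)) :
    Nonempty (N ≅ ext' (k := k) T T) := by
  haveI := isIntegral_curve k C
  haveI : IsIntegral (sq k C) := isIntegral_sq k C
  have hreg := isRegCurve k hdim
  have hK := CurveBridge.isFunctionField (k := k) (X := C) hdim
  obtain ⟨T', hT', hTT'⟩ := exists_isInverseOf hT
  have hT'd : Curv2.deg k C T' 1 = -1 := by
    rw [deg_inverse hdim hT' hT (isInverseOf_symm' hTT'), hTd]
  have heT' : Curv2.euler k C T' = 0 := by rw [euler_line hdim hT', hT'd, hg]; rfl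
  have heT : Curv2.euler k C T = 2 := by rw [euler_line hdim hT, hTd, hg]; rfl
  have heO : Curv2.euler k C (Coh.structureModule C) = 1 := by rw [euler_structure hdim, hg]; rfl
  have h1T' : Subsingleton (Coh.HH C T' 1) :=
    CurveBridge.subsingleton_h1_of_deg_gt hreg hK hT' (by rw [hT'd, hg]; norm_num)
  have hacy : ∀ n, Subsingleton (Coh.HH C T' n) := fun n => by
    match n with
    | 0 =>
      haveI := CurveBridge.finite_h (k := k) hreg hK hT' 0
      refine (Module.finrank_zero_iff (R := k)).mp ?_
      rw [EulerDeg.euler_eq_sub fun n hn => CurveBridge.subsingleton_HH k hreg _ hn,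
        EulerDeg.finrank_eq_zero_of_subsingleton (k := k) h1T'] at heT'
      omega
    | 1 => exact h1T'
    | n + 2 => exact CurveBridge.subsingleton_HH k hreg _ (by omega)
  have hB := isInvertible_ext (k := k) hT' hT'
  have hF := isInvertible_ext (k := k) hT hT
  have hacyB : ∀ n, Subsingleton (Coh.HH (sq k C) (ext' (k := k) T' T') n) := fun n => by
    haveI := (Inter.isCoh_of_isInvertible hT').1
    obtain ⟨e⟩ := Groth.Agent.S2443.result k C C T' T'
      (Groth.Abvar.Seesaw.isFlatOver_of_isInvertible _ hT') (fun p => inferInstance) n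
    haveI := hacy
    exact e.toEquiv.subsingleton
  set i := graph (k := k) (𝟙 C) (Category.id_comp _) with hi
  haveI : IsClosedImmersion i := isClosedImmersion_graph (k := k) (𝟙 C) (Category.id_comp _)
  let M := CohB1.tensorMod (ext' (k := k) T' T') (CohB1.tensorPow N 1)
  have hM : PicF.IsInvertible M :=
    PicAux.isInvertible_tensorMod hB (PicAux.isInvertible_tensorPow hN 1)
  let eI : CohB1.tensorMod (ClSub.idealMod i.ker) M ≅ ext' (k := k) T' T' :=
    (nonempty_ideal_tensor hdim (𝟙 C) (Category.id_comp _) hN hNinv hB 0).some ≪≫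
      (tensor_comm _ _).some ≪≫ (tensor_one _).some
  haveI := hacyB 1
  have h0 := finrank_h0_restrict_add i (graph_over (𝟙 C) (Category.id_comp _)) hM
    (EulerDeg.hEquiv k eI 1).toEquiv.subsingleton
  have hres := PicAux.isInvertible_pullback i hM
  have hdegN : Curv2.deg k C ((Scheme.Modules.pullback i).obj N) 1 = 2 :=
    (deg_pullback_diag_inverse hdim hN hNinv).trans (by rw [hg]; rfl)
  have hd : Curv2.deg k C ((Scheme.Modules.pullback i).obj M) 1 = 0 := by
    obtain ⟨a, -⟩ := exists_pullback_tensorMod i (ext' (k := k) T' T') (CohB1.tensorPow N 1)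
    obtain ⟨b, -⟩ := exists_pullback_tensorMod i
      ((Scheme.Modules.pullback (pullback.fst (str k C) (str k C))).obj T')
      ((Scheme.Modules.pullback (pullback.snd (str k C) (str k C))).obj T')
    obtain ⟨c1⟩ := ZetaAn.ProdCurves.pullback_id_iso _ _ (graph_fst (k := k) (𝟙 C) (Category.id_comp _)) T'
    obtain ⟨c2⟩ := ZetaAn.ProdCurves.pullback_id_iso _ _ (graph_snd (k := k) (𝟙 C) (Category.id_comp _)) T'
    obtain ⟨c3⟩ := pullback_tensorPow i N 1
    have hiN := PicAux.isInvertible_pullback i hN
    rw [EulerDeg.deg_congr k (a ≪≫ PicGrp.tensorModIso (b ≪≫ PicGrp.tensorModIso c1 c2) c3),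
      EulerDeg.deg_tensor_invertible k hdim.le (PicAux.isInvertible_tensorMod hT' hT')
        (PicAux.isInvertible_tensorPow hiN 1),
      EulerDeg.deg_tensor_invertible k hdim.le hT' hT',
      VarietyBC.CurveDeg.deg_tensorPow k hdim.le hiN, hdegN, hT'd]
    norm_num
  have he := euler_line (k := k) hdim hres
  rw [hd, hg, EulerDeg.euler_eq_sub fun n hn => CurveBridge.subsingleton_HH k hreg _ hn] at he
  have hnt : Nontrivial (Coh.HH (sq k C) M 0) :=
    Module.nontrivial_of_finrank_pos (R := k) (by omega)
  obtain ⟨φ, hφ⟩ := (Inter.nontrivial_h0_iff k _).1 hnt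
  -- the degree of `M` against `T ⊠ T` is zero
  have hA : CohB1.IsAmple (ext' (k := k) T T) := by
    have : CohB1.IsAmple T :=
      (VarietyBC.CurveDeg.isAmple_iff_deg_pos k hdim hT).2 (by rw [hTd]; norm_num)
    exact isAmple_ext (str k C) (str k C) this this
  have hclsB := cls_ext_mul (k := k) hT hT' hTT'
  have hpB : pair k (ext' (k := k) T' T') (ext' (k := k) T T) = -2 := by
    have e1 : Nonempty (CohB1.tensorMod (ext' (k := k) T' T') (ext' (k := k) T T) ≅
        Coh.structureModule (sq k C)) :=
      (Groth.Abvar.PicCalc.nonempty_iso_structure_iff (PicAux.isInvertible_tensorMod hB hF)).2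
        ((cls_tensorMod hB hF).trans hclsB)
    have hO : Curv2.euler k (sq k C) (Coh.structureModule (sq k C)) = 1 := by
      have hO' := euler_ext (k := k) hdim (EulerDeg.isInvertible_structureModule C)
        (EulerDeg.isInvertible_structureModule C)
      rw [heO] at hO'
      obtain ⟨p1⟩ := PicAux.pullback_structure_iso (pullback.fst (str k C) (str k C))
      obtain ⟨p2⟩ := PicAux.pullback_structure_iso (pullback.snd (str k C) (str k C))
      rw [EulerDeg.euler_congr k (PicGrp.tensorModIso p1 p2 ≪≫ (tensor_one _).some)] at hO'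
      simpa using hO'
    have hBe : Curv2.euler k (sq k C) (ext' (k := k) T' T') = 0 := by
      rw [euler_ext hdim hT' hT', heT', mul_zero]
    have hFe : Curv2.euler k (sq k C) (ext' (k := k) T T) = 4 := by
      rw [euler_ext hdim hT hT, heT]; rfl
    rw [pair_eq_euler, EulerDeg.euler_congr k e1.some, hO, hBe, hFe]
    norm_num
  have hpN : pair k N (ext' (k := k) T T) = 2 := by
    rw [pair_inverse_ker hdim i (graph_over (𝟙 C) (Category.id_comp _))
      (isEffCartierIdeal_of_section hdim _ (graph_fst (𝟙 C) (Category.id_comp _))) hNinv hF]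
    obtain ⟨b, -⟩ := exists_pullback_tensorMod i
      ((Scheme.Modules.pullback (pullback.fst (str k C) (str k C))).obj T)
      ((Scheme.Modules.pullback (pullback.snd (str k C) (str k C))).obj T)
    obtain ⟨c1⟩ := ZetaAn.ProdCurves.pullback_id_iso _ _ (graph_fst (k := k) (𝟙 C) (Category.id_comp _)) T
    obtain ⟨c2⟩ := ZetaAn.ProdCurves.pullback_id_iso _ _ (graph_snd (k := k) (𝟙 C) (Category.id_comp _)) T
    rw [EulerDeg.deg_congr k (b ≪≫ PicGrp.tensorModIso c1 c2),
      EulerDeg.deg_tensor_invertible k hdim.le hT hT, hTd]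
    norm_num
  haveI := isIso_of_pair_eq k (dim_sq hdim) hA (EulerDeg.isInvertible_structureModule _) hM hφ (by
    rw [pair_one k, pair_tensor k (dim_sq_le hdim) hB (PicAux.isInvertible_tensorPow hN 1) hF,
      pair_pow k (dim_sq_le hdim) hN hF, hpB, hpN]
    norm_num)
  have hc := (Groth.Abvar.PicCalc.nonempty_iso_structure_iff hM).1 ⟨(asIso φ).symm⟩
  rw [cls_tensorMod hB (PicAux.isInvertible_tensorPow hN 1), cls_tensorPow hN, pow_one] at hc
  rw [nonempty_iso_iff hN hF]
  calc cls hN = cls hN * (cls hB * cls hF) := by rw [hclsB, mul_one]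
    _ = cls hF := by rw [← mul_assoc, mul_comm (cls hN), hc, one_mul]

end Groth.HypSq
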