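import Groth.Agent.HypSq.Surface

/-!
# The classes of the fibres on the square of a curve
-/

set_option autoImplicit false
set_option linter.style.haveILetI false
set_option linter.unusedSectionVars false

universe u

open CategoryTheory CategoryTheory.Limits AlgebraicGeometry TopologicalSpace Opposite

namespace Groth.HypSq

open Groth.PicAux Groth.Inter

variable {k : Type u} [Field k] [IsAlgClosed k] {C : Scheme.{u}} [C.Over (Spec (CommRingCat.of k))]
  [IsProper (C ↘ Spec (CommRingCat.of k))] [Smooth (C ↘ Spec (CommRingCat.of k))] [ConnectedSpace ↥C]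

/-- The fibre of the first projection over a point. -/
noncomputable abbrev vert (x : Spec (CommRingCat.of k) ⟶ C) (hx : x ≫ str k C = 𝟙 _) : C ⟶ sq k C :=
  pullback.lift (str k C ≫ x) (𝟙 C) (by rw [Category.assoc, hx, Category.comp_id, Category.id_comp])

theorem vert_fst (x : Spec (CommRingCat.of k) ⟶ C) (hx : x ≫ str k C = 𝟙 _) :
    vert x hx ≫ pullback.fst _ _ = str k C ≫ x := pullback.lift_fst _ _ _

theorem vert_snd (x : Spec (CommRingCat.of k) ⟶ C) (hx : x ≫ str k C = 𝟙 _) :
    vert x hx ≫ pullback.snd _ _ = 𝟙 C := pullback.lift_snd _ _ _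

theorem vert_over (x : Spec (CommRingCat.of k) ⟶ C) (hx : x ≫ str k C = 𝟙 _) :
    vert x hx ≫ (sq k C ↘ Spec (CommRingCat.of k)) = str k C := by
  change vert x hx ≫ pullback.fst _ _ ≫ str k C = _
  rw [← Category.assoc, vert_fst, Category.assoc, hx, Category.comp_id]

variable (hdim : topologicalKrullDim ↥C = 1) (x : Spec (CommRingCat.of k) ⟶ C)
  (hx : x ≫ str k C = 𝟙 _)

include hdim hx in
theorem isEffCartierIdeal_point : BlowUp.IsEffCartierIdeal x.ker := by
  haveI := isIntegral_curve k C
  have := CurveDiv.smoothOfRelativeDimension_one_of_curve (str k C) hdim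
  exact (Groth.Agent.S15990.result (str k C) x hx).1

include hdim in
theorem isInverseOf_pullback_fst {A : C.Modules}
    (hAinv : ClSub.IsInverseOf A (ClSub.idealMod x.ker)) :
    ClSub.IsInverseOf ((Scheme.Modules.pullback (pullback.fst (str k C) (str k C))).obj A)
      (ClSub.idealMod (vert x hx).ker) := by
  haveI := ZetaAn.ProdCurves.isClosedImmersion_of_over' (str k C) x hx
  have hk : (vert x hx).ker = x.ker.comap (pullback.fst (str k C) (str k C)) :=
    AdicLinTop.Thickenings.ker_eq_comap_of_isPullback
      (ZetaAn.ProdCurves.isPullback_section (str k C) (str k C) x hx _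
        ⟨vert_snd x hx, vert_fst x hx⟩)
  obtain ⟨e⟩ := pullback_idealMod (pullback.fst (str k C) (str k C))
    (isEffCartierIdeal_point hdim x hx)
    (hk ▸ isEffCartierIdeal_of_section' hdim _ (vert_snd x hx))
  exact ⟨(tensor_congr ⟨Iso.refl _⟩ ⟨eqToIso (by rw [hk]) ≪≫ e.symm⟩).some ≪≫
    (PicAux.isInverseOf_pullback _ hAinv).some⟩

include hdim in
/-- `(V · B)` is the degree of `B` on the fibre. -/
theorem pair_fst {A : C.Modules} (hAinv : ClSub.IsInverseOf A (ClSub.idealMod x.ker))
    {B : (sq k C).Modules} (hB : PicF.IsInvertible B) :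
    pair k ((Scheme.Modules.pullback (pullback.fst (str k C) (str k C))).obj A) B =
      Curv2.deg k C ((Scheme.Modules.pullback (vert x hx)).obj B) 1 := by
  haveI := ZetaAn.ProdCurves.isClosedImmersion_of_over' (pullback.snd _ _) _ (vert_snd x hx)
  exact pair_inverse_ker hdim _ (vert_over x hx)
    (isEffCartierIdeal_of_section' hdim _ (vert_snd x hx)) (isInverseOf_pullback_fst hdim x hx hAinv) hB

include hdim hx in
theorem deg_point_inverse {A : C.Modules} (hA : PicF.IsInvertible A)
    (hAinv : ClSub.IsInverseOf A (ClSub.idealMod x.ker)) : Curv2.deg k C A 1 = 1 := by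
  have hI := isEffCartierIdeal_point hdim x hx
  rw [deg_inverse hdim hA (isInvertible_idealMod hI) hAinv,
    ZetaAn.ProdCurves.deg_ideal_point k x hx hI, neg_neg]

include hdim hx in
theorem pair_table {A : C.Modules} (hA : PicF.IsInvertible A)
    (hAinv : ClSub.IsInverseOf A (ClSub.idealMod x.ker)) :
    pair k ((Scheme.Modules.pullback (pullback.fst (str k C) (str k C))).obj A)
        ((Scheme.Modules.pullback (pullback.fst (str k C) (str k C))).obj A) = 0 ∧
      pair k ((Scheme.Modules.pullback (pullback.fst (str k C) (str k C))).obj A)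
        ((Scheme.Modules.pullback (pullback.snd (str k C) (str k C))).obj A) = 1 := by
  constructor
  · rw [pair_fst hdim x hx hAinv (PicAux.isInvertible_pullback _ hA)]
    exact ZetaAn.ProdCurves.deg_of_iso_structure k
      ⟨(Scheme.Modules.pullbackComp (vert x hx) (pullback.fst _ _)).app A ≪≫
        (ZetaAn.ProdCurves.pullback_point_iso k _ (str k C) x (vert_fst x hx) hA).some⟩
  · rw [pair_fst hdim x hx hAinv (PicAux.isInvertible_pullback _ hA),
      ZetaAn.ProdCurves.deg_congr k (ZetaAn.ProdCurves.pullback_id_iso _ _ (vert_snd x hx) A)]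
    exact deg_point_inverse hdim x hx hA hAinv

include hdim hx in
/-- The fibre meets every graph once. -/
theorem pair_fst_graph {A : C.Modules} (hA : PicF.IsInvertible A)
    (hAinv : ClSub.IsInverseOf A (ClSub.idealMod x.ker)) (σ : C ⟶ C) (hσp : σ ≫ str k C = str k C)
    {N : (sq k C).Modules} (hNinv : ClSub.IsInverseOf N (ClSub.idealMod (graph σ hσp).ker)) :
    pair k ((Scheme.Modules.pullback (pullback.fst (str k C) (str k C))).obj A) N = 1 := by
  haveI := isClosedImmersion_graph σ hσp
  rw [pair_comm k, pair_inverse_ker hdim _ (graph_over σ hσp)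
      (isEffCartierIdeal_of_section hdim _ (graph_fst σ hσp)) hNinv (PicAux.isInvertible_pullback _ hA),
    ZetaAn.ProdCurves.deg_congr k (ZetaAn.ProdCurves.pullback_id_iso _ _ (graph_fst σ hσp) A)]
  exact deg_point_inverse hdim x hx hA hAinv

end Groth.HypSq
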