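import Groth.Agent.HypSq.Chi
import Groth.Agent.HypSq.Deck

/-!
# The Euler characteristic of `p₁^*M ⊗ p₂^*M' ⊗ N^r` for the graph class `N`
-/

set_option autoImplicit false
set_option linter.style.haveILetI false
set_option linter.unusedSectionVars false

universe u

open CategoryTheory CategoryTheory.Limits AlgebraicGeometry TopologicalSpace Opposite

namespace Groth.HypSq

open Groth.PicAux Groth.Inter
open scoped Groth.Abvar.PicCalc
open Groth.Abvar.PicCalc (cls nonempty_iso_iff cls_tensorMod cls_tensorPow)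

variable {k : Type u} [Field k] [IsAlgClosed k] {C : Scheme.{u}} [C.Over (Spec (CommRingCat.of k))]
  [IsProper (C ↘ Spec (CommRingCat.of k))] [Smooth (C ↘ Spec (CommRingCat.of k))] [ConnectedSpace ↥C]

/-- The twist of an external product by a power of the graph class. -/
noncomputable abbrev extPow (M M' : C.Modules) (N : (sq k C).Modules) (r : ℕ) : (sq k C).Modules :=
  CohB1.tensorMod
    (CohB1.tensorMod ((Scheme.Modules.pullback (pullback.fst (str k C) (str k C))).obj M)
      ((Scheme.Modules.pullback (pullback.snd (str k C) (str k C))).obj M'))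
    (CohB1.tensorPow N r)

theorem isInvertible_extPow {M M' : C.Modules} (hM : PicF.IsInvertible M)
    (hM' : PicF.IsInvertible M') {N : (sq k C).Modules} (hN : PicF.IsInvertible N) (r : ℕ) :
    PicF.IsInvertible (extPow M M' N r) :=
  PicAux.isInvertible_tensorMod (PicAux.isInvertible_tensorMod
    (PicAux.isInvertible_pullback _ hM) (PicAux.isInvertible_pullback _ hM'))
    (PicAux.isInvertible_tensorPow hN r)

variable (hdim : topologicalKrullDim ↥C = 1) (σ : C ⟶ C) (hσp : σ ≫ str k C = str k C)

include hdim in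
/-- The ideal of the graph cancels one power of the graph class. -/
theorem nonempty_ideal_tensor {N : (sq k C).Modules} (hN : PicF.IsInvertible N)
    (hNinv : ClSub.IsInverseOf N (ClSub.idealMod (graph σ hσp).ker)) {B : (sq k C).Modules}
    (hB : PicF.IsInvertible B) (r : ℕ) :
    Nonempty (CohB1.tensorMod (ClSub.idealMod (graph σ hσp).ker)
        (CohB1.tensorMod B (CohB1.tensorPow N (r + 1))) ≅
      CohB1.tensorMod B (CohB1.tensorPow N r)) := by
  haveI := isClosedImmersion_graph σ hσp
  have hI := isInvertible_idealMod (isEffCartierIdeal_of_section hdim _ (graph_fst σ hσp))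
  have hT := PicAux.isInvertible_tensorMod hB (PicAux.isInvertible_tensorPow hN (r + 1))
  rw [nonempty_iso_iff (PicAux.isInvertible_tensorMod hI hT)
      (PicAux.isInvertible_tensorMod hB (PicAux.isInvertible_tensorPow hN r)),
    cls_tensorMod hI hT, cls_tensorMod hB (PicAux.isInvertible_tensorPow hN (r + 1)),
    cls_tensorMod hB (PicAux.isInvertible_tensorPow hN r), cls_tensorPow hN, cls_tensorPow hN,
    pow_succ]
  calc cls hI * (cls hB * (cls hN ^ r * cls hN))
      = cls hB * cls hN ^ r * (cls hN * cls hI) := by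
        rw [mul_comm (cls hI), mul_assoc, mul_assoc, mul_assoc]
    _ = cls hB * cls hN ^ r := by rw [cls_mul_eq_one hN hI hNinv, mul_one]

include hdim in
/-- Restriction of the Euler characteristic to a section. -/
theorem euler_restrict (i : C ⟶ sq k C) [IsClosedImmersion i]
    (hio : i ≫ (sq k C ↘ Spec (CommRingCat.of k)) = str k C) (hI : BlowUp.IsEffCartierIdeal i.ker)
    {B : (sq k C).Modules} (hB : PicF.IsInvertible B) :
    Curv2.euler k (sq k C) B = Curv2.euler k (sq k C) (CohB1.tensorMod (ClSub.idealMod i.ker) B) +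
      Curv2.euler k C ((Scheme.Modules.pullback i).obj B) := by
  haveI := Inter.isNoetherian k (X := sq k C)
  have h := Inter.euler_add k (shortExact_idealMod_twist i.ker hB)
    (RefRank.isCoh_tensorMod (Inter.isCoh_of_isInvertible (isInvertible_idealMod hI))
      (Inter.isCoh_of_isInvertible hB))
    (RefRank.isCoh_tensorMod (EulerDeg.isCoh_quotMod _) (Inter.isCoh_of_isInvertible hB))
  change Curv2.euler k (sq k C) (CohB1.tensorMod (Coh.structureModule (sq k C)) B) =
    Curv2.euler k (sq k C) (CohB1.tensorMod (ClSub.idealMod i.ker) B) +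
      Curv2.euler k (sq k C) (CohB1.tensorMod (ClSub.quotMod i.ker) B) at h
  rwa [EulerDeg.euler_congr k (tensor_one B).some,
    EulerDeg.euler_congr k (tensor_comm (ClSub.quotMod i.ker) B).some,
    ZetaAn.ProdCurves.euler_twist_quotMod k i hio hB] at h

variable (κ : C ⟶ CohB1.ProjSpace 1 k)
  (hκ : κ ≫ CohB1.ProjSpace.toSpec 1 k = (C ↘ Spec (CommRingCat.of k)))
  [IsFinite κ] [Flat κ] (hκ2 : ∀ y : ↥(CohB1.ProjSpace 1 k), κ.finrank y = 2) (hσ : σ ≫ κ = κ)

include hdim hκ hκ2 hσ in
/-- The degree on the graph. -/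
theorem deg_pullback_graph_extPow (hg : 1 ≤ Curv2.genus k C) {M M' : C.Modules}
    (hM : PicF.IsInvertible M) (hM' : PicF.IsInvertible M') {N : (sq k C).Modules}
    (hN : PicF.IsInvertible N) (hNinv : ClSub.IsInverseOf N (ClSub.idealMod (graph σ hσp).ker))
    (r : ℕ) :
    Curv2.deg k C ((Scheme.Modules.pullback (graph σ hσp)).obj (extPow M M' N r)) 1 =
      Curv2.deg k C M 1 + Curv2.deg k C M' 1 + r * (2 - 2 * (Curv2.genus k C : ℤ)) := by
  haveI := isClosedImmersion_graph σ hσp
  haveI := isIso_deck k hdim κ hκ2 σ hσ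
  have hN1 : Curv2.deg k C ((Scheme.Modules.pullback (graph σ hσp)).obj N) 1 =
      2 - 2 * (Curv2.genus k C : ℤ) := by
    rw [← pair_inverse_ker hdim _ (graph_over σ hσp)
      (isEffCartierIdeal_of_section hdim _ (graph_fst σ hσp)) hNinv hN]
    exact pair_graph_self hdim κ hκ hκ2 σ hσp hσ hg hN hNinv
  have hσd : Curv2.deg k C ((Scheme.Modules.pullback σ).obj M') 1 = Curv2.deg k C M' 1 := by
    rw [Curves1.RR.deg_pullback_finite k hdim.le σ hσp 1
      (fun y => by rw [Scheme.Hom.finrank_eq_one_of_isIso]; rfl) hM', Nat.cast_one, one_mul]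
  obtain ⟨e1⟩ := ZetaAn.ProdCurves.pullback_id_iso _ _ (graph_fst σ hσp) M
  let e2 : (Scheme.Modules.pullback (graph σ hσp)).obj
      ((Scheme.Modules.pullback (pullback.snd (str k C) (str k C))).obj M') ≅
        (Scheme.Modules.pullback σ).obj M' :=
    (Scheme.Modules.pullbackComp _ _).app M' ≪≫
      (Scheme.Modules.pullbackCongr (graph_snd σ hσp)).app M'
  obtain ⟨e3⟩ := pullback_tensorPow (graph σ hσp) N r
  obtain ⟨a, -⟩ := exists_pullback_tensorMod (graph σ hσp)
    ((Scheme.Modules.pullback (pullback.fst (str k C) (str k C))).obj M)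
    ((Scheme.Modules.pullback (pullback.snd (str k C) (str k C))).obj M')
  obtain ⟨b, -⟩ := exists_pullback_tensorMod (graph σ hσp)
    (CohB1.tensorMod ((Scheme.Modules.pullback (pullback.fst (str k C) (str k C))).obj M)
      ((Scheme.Modules.pullback (pullback.snd (str k C) (str k C))).obj M'))
    (CohB1.tensorPow N r)
  have hs := PicAux.isInvertible_pullback σ hM'
  have hN' := PicAux.isInvertible_pullback (graph σ hσp) hN
  rw [EulerDeg.deg_congr k (b ≪≫ PicGrp.tensorModIso (a ≪≫ PicGrp.tensorModIso e1 e2) e3),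
    EulerDeg.deg_tensor_invertible k hdim.le (PicAux.isInvertible_tensorMod hM hs)
      (PicAux.isInvertible_tensorPow hN' r),
    EulerDeg.deg_tensor_invertible k hdim.le hM hs,
    VarietyBC.CurveDeg.deg_tensorPow k hdim.le hN', hσd, hN1]

include hdim hκ hκ2 hσ in
/-- The Euler characteristic of `p₁^*M ⊗ p₂^*M' ⊗ N^r`. -/
theorem euler_extPow (hg : 1 ≤ Curv2.genus k C) {M M' : C.Modules} (hM : PicF.IsInvertible M)
    (hM' : PicF.IsInvertible M') {N : (sq k C).Modules} (hN : PicF.IsInvertible N)
    (hNinv : ClSub.IsInverseOf N (ClSub.idealMod (graph σ hσp).ker)) (r : ℕ) :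
    Curv2.euler k (sq k C) (extPow M M' N r) =
      (Curv2.deg k C M 1 - ((Curv2.genus k C : ℤ) - 1)) *
          (Curv2.deg k C M' 1 - ((Curv2.genus k C : ℤ) - 1)) +
        (r : ℤ) * (Curv2.deg k C M 1 + Curv2.deg k C M' 1) -
          ((Curv2.genus k C : ℤ) - 1) * r * (r + 2) := by
  haveI := isClosedImmersion_graph σ hσp
  have hB : PicF.IsInvertible (CohB1.tensorMod
      ((Scheme.Modules.pullback (pullback.fst (str k C) (str k C))).obj M)
      ((Scheme.Modules.pullback (pullback.snd (str k C) (str k C))).obj M')) :=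
    PicAux.isInvertible_tensorMod (PicAux.isInvertible_pullback _ hM)
      (PicAux.isInvertible_pullback _ hM')
  induction r with
  | zero =>
    have e : extPow M M' N 0 ≅ CohB1.tensorMod
        ((Scheme.Modules.pullback (pullback.fst (str k C) (str k C))).obj M)
        ((Scheme.Modules.pullback (pullback.snd (str k C) (str k C))).obj M') :=
      (tensor_comm _ _).some ≪≫ (tensor_one _).some
    rw [EulerDeg.euler_congr k e, euler_ext hdim hM hM', euler_line hdim hM, euler_line hdim hM']
    push_cast
    ring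
  | succ r ih =>
    have hT := isInvertible_extPow hM hM' hN (r + 1)
    rw [euler_restrict hdim _ (graph_over σ hσp)
        (isEffCartierIdeal_of_section hdim _ (graph_fst σ hσp)) hT,
      EulerDeg.euler_congr k (nonempty_ideal_tensor hdim σ hσp hN hNinv hB r).some, ih,
      euler_line hdim (PicAux.isInvertible_pullback _ hT),
      deg_pullback_graph_extPow hdim σ hσp κ hκ hκ2 hσ hg hM hM' hN hNinv]
    push_cast
    ring

end Groth.HypSq
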