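import Groth.Agent.HypSq.DiagClass
import Groth.Agent.BlowUpBasics.CartierDiv
import Groth.Agent.Divisors.EffCartierMore
import Groth.Agent.Curves1.RR.AlgClosed

/-!
# The sum of the diagonal and the graph of the deck involution is `F_1`
-/

set_option autoImplicit false
set_option linter.style.haveILetI false
set_option linter.unusedSectionVars false

universe u

open CategoryTheory CategoryTheory.Limits AlgebraicGeometry TopologicalSpace Opposite

namespace Groth.HypSq

open Groth.PicAux Groth.Inter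
open scoped Groth.Abvar.PicCalc
open Groth.Abvar.PicCalc (cls pull pull_cls pull_comp nonempty_iso_iff cls_tensorMod cls_tensorPow)

variable (k : Type u) [Field k] [IsAlgClosed k]

/-- The ideal of the diagonal of the line has class `(-1, -1)`. -/
theorem exists_diag_ideal_line :
    ∃ hI : BlowUp.IsEffCartierIdeal (pullback.diagonal (CohB1.ProjSpace.toSpec 1 k)).ker,
      cls (isInvertible_idealMod hI) *
        (pull (pullback.fst _ _) (cls (Chow.ToPn.twist_isInvertible (n := 1) (R := k))) *
          pull (pullback.snd _ _) (cls (Chow.ToPn.twist_isInvertible (n := 1) (R := k)))) = 1 := by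
  letI : (CohB1.ProjSpace 1 k).Over (Spec (CommRingCat.of k)) := ⟨CohB1.ProjSpace.toSpec 1 k⟩
  haveI : IsProper ((CohB1.ProjSpace 1 k) ↘ Spec (CommRingCat.of k)) :=
    Variety2.isProper_projSpace_toSpec 1 k
  haveI : Smooth ((CohB1.ProjSpace 1 k) ↘ Spec (CommRingCat.of k)) :=
    Curves1.RR.smooth_projSpace_field (k := k) 1
  haveI : IsIntegral (CohB1.ProjSpace 1 k) := SerreH0.isIntegral_projSpace 1 k
  haveI : ConnectedSpace ↥(CohB1.ProjSpace 1 k) := inferInstance
  have hdim : topologicalKrullDim ↥(CohB1.ProjSpace 1 k) = 1 := by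
    simpa using Variety2.PSpace.dim_projSpace (n := 1) (k := k)
  have hT := Chow.ToPn.twist_isInvertible (n := 1) (R := k)
  have h0 : Curv2.euler k (CohB1.ProjSpace 1 k) (Coh.structureModule (CohB1.ProjSpace 1 k)) = 1 := by
    obtain ⟨e0⟩ := PnCoh.nonempty_twist_zero_iso (CohB1.polyGrading 1 k)
    let e0' : Twist.twistProjSpace 1 k ((0 : ℕ) : ℤ) ≅ Coh.structureModule (CohB1.ProjSpace 1 k) := e0
    have h0 := Curves1.RR.euler_twist_P1 k 0
    rw [EulerDeg.euler_congr k e0'] at h0
    simpa using h0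
  have hg : Curv2.genus k (CohB1.ProjSpace 1 k) = 0 := by
    have := euler_structure (k := k) hdim
    omega
  have hTd : Curv2.deg k (CohB1.ProjSpace 1 k) (Twist.twistProjSpace 1 k 1) 1 = 1 := by
    have h1 := euler_line (k := k) hdim hT
    have h2 : Curv2.euler k (CohB1.ProjSpace 1 k) (Twist.twistProjSpace 1 k 1) = (1 : ℤ) + 1 := by
      exact_mod_cast Curves1.RR.euler_twist_P1 k 1
    rw [h2, hg] at h1
    push_cast at h1
    linarith
  have hI : BlowUp.IsEffCartierIdeal (pullback.diagonal (CohB1.ProjSpace.toSpec 1 k)).ker :=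
    isEffCartierIdeal_of_section hdim _ (pullback.diagonal_fst _)
  refine ⟨hI, ?_⟩
  obtain ⟨N, hN, hIN⟩ := exists_isInverseOf (isInvertible_idealMod hI)
  have hNinv := isInverseOf_symm' hIN
  obtain e := nonempty_diag_iso (k := k) hdim hg hT hTd hN hNinv
  have hX := isInvertible_ext (k := k) hT hT
  have hc := (nonempty_iso_iff hN hX).1 e
  have h := cls_mul_eq_one hN (isInvertible_idealMod hI) hNinv
  have hXc : cls hX = pull (pullback.fst (str k _) (str k _)) (cls hT) *
      pull (pullback.snd (str k _) (str k _)) (cls hT) := by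
    rw [cls_tensorMod (PicAux.isInvertible_pullback _ hT) (PicAux.isInvertible_pullback _ hT),
      ← pull_cls _ hT, ← pull_cls _ hT]
  exact (mul_comm _ _).trans ((congrArg (fun c => c * cls (isInvertible_idealMod hI))
    (hc.trans hXc)).symm.trans h)

variable {k} {C : Scheme.{u}} [C.Over (Spec (CommRingCat.of k))]
  [IsProper (C ↘ Spec (CommRingCat.of k))] [Smooth (C ↘ Spec (CommRingCat.of k))] [ConnectedSpace ↥C]
  (hdim : topologicalKrullDim ↥C = 1) (κ : C ⟶ CohB1.ProjSpace 1 k)
  (hκ : κ ≫ CohB1.ProjSpace.toSpec 1 k = (C ↘ Spec (CommRingCat.of k)))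
  [IsFinite κ] [Flat κ] (hκ2 : ∀ y : ↥(CohB1.ProjSpace 1 k), κ.finrank y = 2)
  (σ : C ⟶ C) (hσp : σ ≫ str k C = str k C) (hσ : σ ≫ κ = κ)

/-- The map of squares induced by `κ`. -/
noncomputable abbrev sqMap : sq k C ⟶
    pullback (CohB1.ProjSpace.toSpec 1 k) (CohB1.ProjSpace.toSpec 1 k) :=
  pullback.map (str k C) (str k C) _ _ κ κ (𝟙 _) ((Category.comp_id _).trans hκ.symm)
    ((Category.comp_id _).trans hκ.symm)

theorem sqMap_fst : sqMap κ hκ ≫ pullback.fst _ _ = pullback.fst (str k C) (str k C) ≫ κ :=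
  pullback.lift_fst _ _ _

theorem sqMap_snd : sqMap κ hκ ≫ pullback.snd _ _ = pullback.snd (str k C) (str k C) ≫ κ :=
  pullback.lift_snd _ _ _

theorem flat_sqMap : Flat (sqMap κ hκ) :=
  MorphismProperty.pullbackMap (P := @Flat) (i₁ := κ) (i₂ := κ) inferInstance inferInstance hκ.symm
    hκ.symm

include hσ in
theorem comap_le_graph :
    (pullback.diagonal (CohB1.ProjSpace.toSpec 1 k)).ker.comap (sqMap κ hκ) ≤ (graph σ hσp).ker := by
  rw [← Scheme.IdealSheafData.le_map_iff_comap_le, Scheme.IdealSheafData.map_ker]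
  have e : graph σ hσp ≫ sqMap κ hκ = κ ≫ pullback.diagonal (CohB1.ProjSpace.toSpec 1 k) := by
    apply pullback.hom_ext
    · rw [Category.assoc, sqMap_fst, ← Category.assoc, graph_fst, Category.id_comp, Category.assoc,
        pullback.diagonal_fst, Category.comp_id]
    · rw [Category.assoc, sqMap_snd, ← Category.assoc, graph_snd, hσ, Category.assoc,
        pullback.diagonal_snd, Category.comp_id]
  rw [e]
  exact Scheme.Hom.le_ker_comp _ _

theorem eq_id_of_le (hle : (graph (k := k) (𝟙 C) (Category.id_comp _)).ker ≤ (graph σ hσp).ker) :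
    σ = 𝟙 C := by
  haveI := isClosedImmersion_graph (k := k) (𝟙 C) (Category.id_comp _)
  have h := IsClosedImmersion.lift_fac _ _ hle
  have h1 := congrArg (· ≫ pullback.fst (str k C) (str k C)) h
  have h2 := congrArg (· ≫ pullback.snd (str k C) (str k C)) h
  simp only [Category.assoc, graph_fst, graph_snd, Category.comp_id] at h1 h2
  exact h2.symm.trans h1

theorem not_isZero_invertible {X : Scheme.{u}} [IsIntegral X] {M : X.Modules}
    (hM : PicF.IsInvertible M) : ¬ IsZero M := fun hz => by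
  obtain ⟨e⟩ := Inter.exists_stalk_equiv hM (genericPoint X)
  exact @not_nontrivial _ (@Equiv.subsingleton _ _ e.toEquiv
    (not_not.1 fun h => ((QCohMod.isZero_iff_support_eq_empty _).1 hz).subset h)) inferInstance

include hdim hκ hκ2 hσ in
/-- The classes of the ideals of the diagonal and of the graph multiply to the inverse of `F_1`. -/
theorem cls_diag_mul_graph (hσ1 : σ ≠ 𝟙 C) :
    ∃ (hD : BlowUp.IsEffCartierIdeal (graph (k := k) (𝟙 C) (Category.id_comp _)).ker)
      (hG : BlowUp.IsEffCartierIdeal (graph σ hσp).ker),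
      cls (isInvertible_idealMod hD) * cls (isInvertible_idealMod hG) *
        cls (isInvertible_box κ 1) = 1 := by
  haveI := isIntegral_curve k C
  haveI : IsIntegral (sq k C) := isIntegral_sq k C
  haveI := flat_sqMap κ hκ
  haveI hcD := isClosedImmersion_graph (k := k) (𝟙 C) (Category.id_comp _)
  haveI hcG := isClosedImmersion_graph σ hσp
  have hD := isEffCartierIdeal_of_section hdim _ (graph_fst (k := k) (𝟙 C) (Category.id_comp _))
  have hG := isEffCartierIdeal_of_section hdim _ (graph_fst σ hσp)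
  refine ⟨hD, hG, ?_⟩
  obtain ⟨hP, hcls⟩ := exists_diag_ideal_line k
  have hJ := Groth.Divisors.isEffCartierIdeal_comap_flat hP (sqMap κ hκ)
  -- the class of the inverse image
  have hJc : cls (isInvertible_idealMod hJ) * cls (isInvertible_box κ 1) = 1 := by
    have h := congrArg (pull (sqMap κ hκ)) hcls
    obtain ⟨e⟩ := pullback_idealMod (sqMap κ hκ) hP hJ
    rw [map_mul, map_mul, map_one, pull_cls (sqMap κ hκ) (isInvertible_idealMod hP),
      (nonempty_iso_iff _ (isInvertible_idealMod hJ)).1 ⟨e⟩, ← pull_comp, ← pull_comp,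
      sqMap_fst,
      sqMap_snd,
      pull_comp, pull_comp, pull_cls κ] at h
    rw [cls_tensorMod (PicAux.isInvertible_pullback _ (isInvertible_lbPow κ 1))
        (PicAux.isInvertible_pullback _ (isInvertible_lbPow κ 1)),
      ← pull_cls _ (isInvertible_lbPow κ 1), ← pull_cls _ (isInvertible_lbPow κ 1), cls_lbPow,
      pow_one]
    exact h
  -- division
  have hleD := comap_le_graph κ hκ (𝟙 C) (Category.id_comp _) (Category.id_comp _)
  have hleG := comap_le_graph κ hκ σ hσp hσ
  obtain ⟨J₁, hJ₁⟩ := Groth.BlowUpBasics.exists_eq_mul_of_le hD hleD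
  have hJ₁c := Groth.Divisors.isEffCartierIdeal_left_of_mul (hJ₁ ▸ hJ)
  have hJ₁G : J₁ ≤ (graph σ hσp).ker := by
    have hker : ∀ (τ : C ⟶ sq k C), τ.ker = Scheme.IdealSheafData.vanishingIdeal
        ⟨closure (Set.range τ), isClosed_closure⟩ :=
      fun τ => Groth.AlgSp3.ker_eq_vanishingIdeal_of_isReduced τ
    rw [hJ₁, hker (graph σ hσp), ← Scheme.IdealSheafData.le_support_iff_le_vanishingIdeal,
      Scheme.IdealSheafData.support_mul] at hleG
    have hirr0 := IsIrreducible.image (IrreducibleSpace.isIrreducible_univ C) _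
      (graph σ hσp).continuous.continuousOn
    rw [Set.image_univ] at hirr0
    have hirr : IsIrreducible (closure (Set.range (graph σ hσp))) := hirr0.closure
    rcases isPreirreducible_iff_isClosed_union_isClosed.1 hirr.2 _ _
      J₁.support.isClosed (graph (k := k) (𝟙 C) (Category.id_comp _)).ker.support.isClosed hleG
      with h | h
    · rw [hker (graph σ hσp), ← Scheme.IdealSheafData.le_support_iff_le_vanishingIdeal]
      exact h
    · refine absurd (eq_id_of_le σ hσp ?_) hσ1
      rw [hker (graph σ hσp), ← Scheme.IdealSheafData.le_support_iff_le_vanishingIdeal]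
      exact h
  obtain ⟨J₂, hJ₂⟩ := Groth.BlowUpBasics.exists_eq_mul_of_le hG hJ₁G
  have hJ₂c := Groth.Divisors.isEffCartierIdeal_left_of_mul (hJ₂ ▸ hJ₁c)
  have hI₂ := isInvertible_idealMod hJ₂c
  have hprod : cls (isInvertible_idealMod hJ) = cls hI₂ * cls (isInvertible_idealMod hG) *
      cls (isInvertible_idealMod hD) := by
    subst hJ₂
    have hJ' : BlowUp.IsEffCartierIdeal (J₂ * (graph σ hσp).ker *
        (graph (k := k) (𝟙 C) (Category.id_comp _)).ker) := hJ₁ ▸ hJ
    rw [(nonempty_iso_iff (isInvertible_idealMod hJ) (isInvertible_idealMod hJ')).1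
        ⟨eqToIso (by rw [hJ₁])⟩,
      ← (nonempty_iso_iff (PicAux.isInvertible_tensorMod (isInvertible_idealMod hJ₁c) (isInvertible_idealMod hD)) (isInvertible_idealMod hJ')).1 (PicAux.idealMod_mul hJ₁c hD),
      cls_tensorMod (isInvertible_idealMod hJ₁c) (isInvertible_idealMod hD),
      ← (nonempty_iso_iff (PicAux.isInvertible_tensorMod hI₂ (isInvertible_idealMod hG)) (isInvertible_idealMod hJ₁c)).1 (PicAux.idealMod_mul hJ₂c hG),
      cls_tensorMod hI₂ (isInvertible_idealMod hG)]
  -- the residual divisor has degree zero against `F_1`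
  have hF := isInvertible_box κ 1
  have hA : CohB1.IsAmple (box κ 1) := by
    have hL : CohB1.IsAmple (lbPow κ 1) :=
      (VarietyBC.CurveDeg.isAmple_iff_deg_pos k hdim (isInvertible_lbPow κ 1)).2
        (by rw [deg_lbPow hdim κ hκ hκ2]; norm_num)
    exact isAmple_ext (str k C) (str k C) hL hL
  have hFF : pair k (box κ 1) (box κ 1) = 8 := by
    have hb : ∀ s : ℕ, Curv2.euler k (sq k C) (box κ s) =
        (2 * (s : ℤ) - ((Curv2.genus k C : ℤ) - 1)) ^ 2 := fun s => by
      rw [euler_ext hdim (isInvertible_lbPow κ s) (isInvertible_lbPow κ s),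
        euler_lbPow hdim κ hκ hκ2, pow_two]
    have h00 : Nonempty (box (k := k) κ 0 ≅ Coh.structureModule (sq k C)) := by
      obtain ⟨p1⟩ := PicAux.pullback_structure_iso (pullback.fst (str k C) (str k C))
      obtain ⟨p2⟩ := PicAux.pullback_structure_iso (pullback.snd (str k C) (str k C))
      exact ⟨PicGrp.tensorModIso p1 p2 ≪≫ (tensor_one _).some⟩
    have h2 : Nonempty (CohB1.tensorMod (box κ 1) (box κ 1) ≅ box κ 2) := by
      rw [nonempty_iso_iff (PicAux.isInvertible_tensorMod hF hF) (isInvertible_box κ 2),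
        cls_tensorMod hF hF,
        cls_tensorMod (PicAux.isInvertible_pullback _ (isInvertible_lbPow κ 1))
          (PicAux.isInvertible_pullback _ (isInvertible_lbPow κ 1)),
        cls_tensorMod (PicAux.isInvertible_pullback _ (isInvertible_lbPow κ 2))
          (PicAux.isInvertible_pullback _ (isInvertible_lbPow κ 2)),
        ← pull_cls _ (isInvertible_lbPow κ 1), ← pull_cls _ (isInvertible_lbPow κ 1),
        ← pull_cls _ (isInvertible_lbPow κ 2), ← pull_cls _ (isInvertible_lbPow κ 2),
        cls_lbPow, cls_lbPow, pow_one, mul_mul_mul_comm, ← map_mul, ← map_mul, ← pow_two]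
    rw [pair_eq_euler, EulerDeg.euler_congr k h2.some, ← EulerDeg.euler_congr k h00.some, hb, hb, hb]
    push_cast
    ring
  have hpG : ∀ (τ : C ⟶ C) (hτp : τ ≫ str k C = str k C) (_ : τ ≫ κ = κ)
      (hτI : BlowUp.IsEffCartierIdeal (graph τ hτp).ker),
      pair k (ClSub.idealMod (graph τ hτp).ker) (box κ 1) = -4 := fun τ hτp hτ hτI => by
    haveI := isClosedImmersion_graph τ hτp
    obtain ⟨e⟩ : Nonempty ((Scheme.Modules.pullback (graph τ hτp)).obj (box κ 1) ≅ lbPow κ 2) := by
      rw [nonempty_iso_iff (PicAux.isInvertible_pullback _ hF) (isInvertible_lbPow κ 2), ← pull_cls _ hF,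
        pull_cls_box κ τ hτp hτ, cls_lbPow]
    rw [ZetaAn.ProdCurves.pair_idealMod k _ (graph_over τ hτp) hτI hF, EulerDeg.deg_congr k e,
      deg_lbPow hdim κ hκ hκ2]
    rfl
  have hpJ : pair k (ClSub.idealMod ((pullback.diagonal (CohB1.ProjSpace.toSpec 1 k)).ker.comap
      (sqMap κ hκ))) (box κ 1) = -8 := by
    rw [pair_inverse k (dim_sq_le hdim) hF ?_ hF, hFF]
    exact (Groth.Abvar.PicCalc.nonempty_iso_structure_iff
      (PicAux.isInvertible_tensorMod hF (isInvertible_idealMod hJ))).2
      ((cls_tensorMod hF (isInvertible_idealMod hJ)).trans (by rw [mul_comm, hJc]))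
  have hI₂G := PicAux.isInvertible_tensorMod hI₂ (isInvertible_idealMod hG)
  have hsum : pair k (ClSub.idealMod J₂) (box κ 1) = 0 := by
    have e : Nonempty (ClSub.idealMod ((pullback.diagonal (CohB1.ProjSpace.toSpec 1 k)).ker.comap
        (sqMap κ hκ)) ≅ CohB1.tensorMod (CohB1.tensorMod (ClSub.idealMod J₂)
          (ClSub.idealMod (graph σ hσp).ker))
          (ClSub.idealMod (graph (k := k) (𝟙 C) (Category.id_comp _)).ker)) := by
      rw [nonempty_iso_iff (isInvertible_idealMod hJ)
          (PicAux.isInvertible_tensorMod hI₂G (isInvertible_idealMod hD)),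
        cls_tensorMod hI₂G (isInvertible_idealMod hD),
        cls_tensorMod hI₂ (isInvertible_idealMod hG), hprod]
    rw [pair_congr k e, pair_tensor k (dim_sq_le hdim) hI₂G (isInvertible_idealMod hD) hF,
      pair_tensor k (dim_sq_le hdim) hI₂ (isInvertible_idealMod hG) hF, hpG σ hσp hσ hG,
      hpG (𝟙 C) (Category.id_comp _) (Category.id_comp _) hD] at hpJ
    linarith
  have hι : ClSub.idealModι J₂ ≠ 0 := fun h => by
    haveI : Mono (ClSub.idealModι J₂) := inferInstanceAs (Mono (kernel.ι _))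
    exact not_isZero_invertible hI₂ ((IsZero.iff_id_eq_zero _).2
      ((cancel_mono (ClSub.idealModι J₂)).1 (by rw [h, comp_zero, comp_zero])))
  haveI := isIso_of_pair_eq k (dim_sq hdim) hA hI₂ (EulerDeg.isInvertible_structureModule _) hι
    (by rw [hsum, pair_one k])
  have hc2 : cls hI₂ = 1 :=
    (Groth.Abvar.PicCalc.nonempty_iso_structure_iff hI₂).1 ⟨asIso (ClSub.idealModι J₂)⟩
  rw [hprod, hc2, one_mul] at hJc
  rw [mul_comm (cls (isInvertible_idealMod hD))]
  exact hJc

include hdim hκ hκ2 hσ in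
/-- The diagonal class and the graph class add up to `F_1`. -/
theorem nonempty_diag_tensor_graph (hσ1 : σ ≠ 𝟙 C) {N ND : (sq k C).Modules}
    (hN : PicF.IsInvertible N) (hNinv : ClSub.IsInverseOf N (ClSub.idealMod (graph σ hσp).ker))
    (hND : PicF.IsInvertible ND)
    (hNDinv : ClSub.IsInverseOf ND (ClSub.idealMod (pullback.diagonal (str k C)).ker)) :
    Nonempty (CohB1.tensorMod ND N ≅ box κ 1) := by
  obtain ⟨hD, hG, h⟩ := cls_diag_mul_graph hdim κ hκ hκ2 σ hσp hσ hσ1
  rw [nonempty_iso_iff (PicAux.isInvertible_tensorMod hND hN) (isInvertible_box κ 1),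
    cls_tensorMod hND hN]
  have h1 := cls_mul_eq_one hND (isInvertible_idealMod hD) hNDinv
  have h2 := cls_mul_eq_one hN (isInvertible_idealMod hG) hNinv
  calc cls hND * cls hN
      = cls hND * cls hN * (cls (isInvertible_idealMod hD) * cls (isInvertible_idealMod hG) *
          cls (isInvertible_box κ 1)) := by rw [h, mul_one]
    _ = (cls hND * cls (isInvertible_idealMod hD)) * (cls hN * cls (isInvertible_idealMod hG)) *
          cls (isInvertible_box κ 1) := by rw [← mul_assoc, mul_mul_mul_comm]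
    _ = cls (isInvertible_box κ 1) := by rw [h1, h2, one_mul, one_mul]

end Groth.HypSq

namespace Groth.HypSq

open Groth.PicAux Groth.Inter
open scoped Groth.Abvar.PicCalc

variable {k : Type u} [Field k] [IsAlgClosed k] {C : Scheme.{u}} [C.Over (Spec (CommRingCat.of k))]
  [IsProper (C ↘ Spec (CommRingCat.of k))] [Smooth (C ↘ Spec (CommRingCat.of k))] [ConnectedSpace ↥C]
  (hdim : topologicalKrullDim ↥C = 1) (κ : C ⟶ CohB1.ProjSpace 1 k)
  (hκ : κ ≫ CohB1.ProjSpace.toSpec 1 k = (C ↘ Spec (CommRingCat.of k)))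
  [IsFinite κ] [Flat κ] (hκ2 : ∀ y : ↥(CohB1.ProjSpace 1 k), κ.finrank y = 2)
  (σ : C ⟶ C) (hσp : σ ≫ str k C = str k C) (hσ : σ ≫ κ = κ)

include hdim hκ hκ2 hσ in
/-- The graph meets the diagonal in `2g + 2` points. -/
theorem pair_graph_diag (hσ1 : σ ≠ 𝟙 C) (hg : 1 ≤ Curv2.genus k C) {N ND : (sq k C).Modules}
    (hN : PicF.IsInvertible N) (hNinv : ClSub.IsInverseOf N (ClSub.idealMod (graph σ hσp).ker))
    (hND : PicF.IsInvertible ND)
    (hNDinv : ClSub.IsInverseOf ND (ClSub.idealMod (pullback.diagonal (str k C)).ker)) :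
    pair k N ND = 2 * (Curv2.genus k C : ℤ) + 2 := by
  haveI := isClosedImmersion_graph σ hσp
  have e := nonempty_diag_tensor_graph hdim κ hκ hκ2 σ hσp hσ hσ1 hN hNinv hND hNDinv
  have h := pair_congr k e N
  rw [pair_tensor k (dim_sq_le hdim) hND hN hN, pair_graph_self hdim κ hκ hκ2 σ hσp hσ hg hN hNinv,
    pair_comm k (box κ 1), pair_inverse_ker hdim _ (graph_over σ hσp)
      (isEffCartierIdeal_of_section hdim _ (graph_fst σ hσp)) hNinv (isInvertible_box κ 1)] at h
  obtain ⟨e2⟩ : Nonempty ((Scheme.Modules.pullback (graph σ hσp)).obj (box κ 1) ≅ lbPow κ 2) := by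
    rw [Groth.Abvar.PicCalc.nonempty_iso_iff (PicAux.isInvertible_pullback _ (isInvertible_box κ 1))
      (isInvertible_lbPow κ 2), ← Groth.Abvar.PicCalc.pull_cls _ (isInvertible_box κ 1),
      pull_cls_box κ σ hσp hσ, cls_lbPow]
  rw [EulerDeg.deg_congr k e2, deg_lbPow hdim κ hκ hκ2] at h
  rw [pair_comm k]
  push_cast at h
  linarith

end Groth.HypSq
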