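import Groth.Agent.HypSq.Curve
import Groth.Agent.ZetaAn.ProdCurves
import Groth.Agent.EulerDeg.Tensor
import Groth.Agent.FBaseGeom.Prod
import Groth.Agent.CurveDiv.HilbProper
import Groth.Agent.S1582
import Groth.Agent.S15990

/-!
# The square of a double cover of the line, and graphs of deck endomorphisms
-/

set_option autoImplicit false
set_option linter.style.haveILetI false
set_option linter.unusedSectionVars false

universe u

open CategoryTheory CategoryTheory.Limits AlgebraicGeometry TopologicalSpace Opposite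

namespace Groth.HypSq

open Groth.PicAux Groth.Inter
open scoped Groth.Abvar.PicCalc
open Groth.Abvar.PicCalc (cls pull pull_cls pull_comp pull_id nonempty_iso_iff
  nonempty_iso_structure_iff cls_tensorMod cls_tensorPow)

section Pic

variable {X Y : Scheme.{u}}

theorem cls_mul_eq_one {A B : X.Modules} (hA : PicF.IsInvertible A) (hB : PicF.IsInvertible B)
    (h : ClSub.IsInverseOf A B) : cls hA * cls hB = 1 :=
  (cls_tensorMod hA hB).symm.trans
    ((nonempty_iso_structure_iff (PicAux.isInvertible_tensorMod hA hB)).1 h)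

theorem isInverseOf_symm' {A B : X.Modules} (h : ClSub.IsInverseOf A B) : ClSub.IsInverseOf B A :=
  ⟨(tensor_comm B A).some ≪≫ h.some⟩

end Pic

variable {k : Type u} [Field k] {C : Scheme.{u}} [C.Over (Spec (CommRingCat.of k))]

/-- The structure morphism. -/
noncomputable abbrev str (k : Type u) [Field k] (C : Scheme.{u}) [C.Over (Spec (CommRingCat.of k))] :
    C ⟶ Spec (CommRingCat.of k) :=
  C ↘ Spec (CommRingCat.of k)

/-- The square of a curve. -/
noncomputable abbrev sq (k : Type u) [Field k] (C : Scheme.{u})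
    [C.Over (Spec (CommRingCat.of k))] : Scheme.{u} :=
  pullback (str k C) (str k C)

/-- The square is a scheme over the field through the first projection. -/
noncomputable scoped instance overSq : (sq k C).Over (Spec (CommRingCat.of k)) :=
  ⟨pullback.fst (str k C) (str k C) ≫ str k C⟩

/-- The graph of an endomorphism over the field. -/
noncomputable abbrev graph (σ : C ⟶ C) (hσp : σ ≫ str k C = str k C) : C ⟶ sq k C :=
  pullback.lift (𝟙 C) σ ((Category.id_comp (str k C)).trans hσp.symm)

theorem graph_fst (σ : C ⟶ C) (hσp : σ ≫ str k C = str k C) :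
    graph σ hσp ≫ pullback.fst _ _ = 𝟙 C := pullback.lift_fst _ _ _

theorem graph_snd (σ : C ⟶ C) (hσp : σ ≫ str k C = str k C) :
    graph σ hσp ≫ pullback.snd _ _ = σ := pullback.lift_snd _ _ _

theorem graph_over (σ : C ⟶ C) (hσp : σ ≫ str k C = str k C) :
    graph σ hσp ≫ (sq k C ↘ Spec (CommRingCat.of k)) = str k C := by
  change graph σ hσp ≫ pullback.fst _ _ ≫ str k C = _
  rw [← Category.assoc, graph_fst, Category.id_comp]

theorem isPullback_graph (σ : C ⟶ C) (hσp : σ ≫ str k C = str k C) :
    IsPullback (graph σ hσp) σ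
      (pullback.map (str k C) (str k C) (str k C) (str k C) σ (𝟙 C) (𝟙 _)
        ((Category.comp_id _).trans hσp.symm) (by rw [Category.comp_id, Category.id_comp]))
      (pullback.diagonal (str k C)) := by
  let φ := pullback.map (str k C) (str k C) (str k C) (str k C) σ (𝟙 C) (𝟙 _)
    ((Category.comp_id _).trans hσp.symm) (by rw [Category.comp_id, Category.id_comp])
  have hw : graph σ hσp ≫ φ = σ ≫ pullback.diagonal (str k C) := by
    apply pullback.hom_ext
    · simp only [φ, graph, pullback.map, Category.assoc, pullback.diagonal_fst, Category.comp_id]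
      rw [pullback.lift_fst, pullback.lift_fst_assoc, Category.id_comp]
    · simp only [φ, graph, pullback.map, Category.assoc, pullback.diagonal_snd, Category.comp_id]
      rw [pullback.lift_snd, pullback.lift_snd]
  refine ⟨⟨hw⟩, ⟨PullbackCone.IsLimit.mk hw (fun s => s.fst ≫ pullback.fst _ _) (fun s => ?_)
    (fun s => ?_) (fun s m hm _ => ?_)⟩⟩
  · have h1 := congrArg (· ≫ pullback.fst _ _) s.condition
    have h2 := congrArg (· ≫ pullback.snd _ _) s.condition
    simp only [Category.assoc, φ, pullback.map, pullback.lift_fst, pullback.lift_snd,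
      pullback.diagonal_fst, pullback.diagonal_snd, Category.comp_id] at h1 h2
    apply pullback.hom_ext <;> simp only [Category.assoc, graph, pullback.lift_fst,
      pullback.lift_snd, Category.comp_id]
    exact h1.trans h2.symm
  · have h1 := congrArg (· ≫ pullback.fst _ _) s.condition
    simp only [Category.assoc, φ, pullback.map, pullback.lift_fst, pullback.lift_snd,
      pullback.diagonal_fst, pullback.diagonal_snd, Category.comp_id] at h1
    simpa only [Category.assoc] using h1
  · rw [← hm, Category.assoc, graph_fst, Category.comp_id]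

section Curve

variable [IsAlgClosed k] [IsProper (C ↘ Spec (CommRingCat.of k))]
  [Smooth (C ↘ Spec (CommRingCat.of k))] [ConnectedSpace ↥C]

instance isProper_sq : IsProper (sq k C ↘ Spec (CommRingCat.of k)) :=
  inferInstanceAs (IsProper (pullback.fst (str k C) (str k C) ≫ str k C))

theorem isIntegral_sq (k : Type u) [Field k] [IsAlgClosed k] (C : Scheme.{u})
    [C.Over (Spec (CommRingCat.of k))] [IsProper (C ↘ Spec (CommRingCat.of k))]
    [Smooth (C ↘ Spec (CommRingCat.of k))] [ConnectedSpace ↥C] : IsIntegral (sq k C) := by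
  haveI := isIntegral_curve k C
  exact Groth.Agent.S1582.result k C C (str k C) (str k C)

variable (hdim : topologicalKrullDim ↥C = 1)

include hdim in
theorem dim_sq : topologicalKrullDim ↥(sq k C) = 2 := by
  haveI := isIntegral_curve k C
  rw [Groth.FBaseGeom.dim_prod, hdim]
  rfl

include hdim in
theorem dim_sq_le : topologicalKrullDim ↥(sq k C) ≤ ((2 : ℕ) : WithBot ℕ∞) := (dim_sq hdim).le

include hdim in
theorem isEffCartierIdeal_of_section (i : C ⟶ sq k C) (hi : i ≫ pullback.fst _ _ = 𝟙 C) :
    BlowUp.IsEffCartierIdeal i.ker := by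
  haveI := isIntegral_curve k C
  have hsm := CurveDiv.smoothOfRelativeDimension_one_of_curve (str k C) hdim
  haveI := AlgebraicGeometry.smoothOfRelativeDimension_isStableUnderBaseChange.{u} (n := 1)
  haveI : SmoothOfRelativeDimension 1 (pullback.fst (str k C) (str k C)) :=
    MorphismProperty.pullback_fst (P := @SmoothOfRelativeDimension.{u} 1) _ _ hsm
  exact (Groth.Agent.S15990.result (pullback.fst (str k C) (str k C)) i hi).1

include hdim in
theorem isEffCartierIdeal_of_section' (i : C ⟶ sq k C) (hi : i ≫ pullback.snd _ _ = 𝟙 C) :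
    BlowUp.IsEffCartierIdeal i.ker := by
  haveI := isIntegral_curve k C
  have hsm := CurveDiv.smoothOfRelativeDimension_one_of_curve (str k C) hdim
  haveI := AlgebraicGeometry.smoothOfRelativeDimension_isStableUnderBaseChange.{u} (n := 1)
  haveI : SmoothOfRelativeDimension 1 (pullback.snd (str k C) (str k C)) :=
    MorphismProperty.pullback_snd (P := @SmoothOfRelativeDimension.{u} 1) _ _ hsm
  exact (Groth.Agent.S15990.result (pullback.snd (str k C) (str k C)) i hi).1

include hdim in
theorem deg_inverse {A B : C.Modules} (hA : PicF.IsInvertible A) (hB : PicF.IsInvertible B)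
    (h : ClSub.IsInverseOf A B) : Curv2.deg k C A 1 = - Curv2.deg k C B 1 := by
  have := EulerDeg.deg_tensor_invertible k hdim.le hA hB
  rw [ZetaAn.ProdCurves.deg_of_iso_structure k h] at this
  linarith

include hdim in
/-- `(O(i) · B)` is the degree of `B` on the image of a section. -/
theorem pair_inverse_ker (i : C ⟶ sq k C) [IsClosedImmersion i]
    (hio : i ≫ (sq k C ↘ Spec (CommRingCat.of k)) = str k C) (hI : BlowUp.IsEffCartierIdeal i.ker)
    {N B : (sq k C).Modules} (hN : ClSub.IsInverseOf N (ClSub.idealMod i.ker))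
    (hB : PicF.IsInvertible B) :
    pair k N B = Curv2.deg k C ((Scheme.Modules.pullback i).obj B) 1 := by
  rw [pair_inverse k (dim_sq_le hdim) (isInvertible_idealMod hI) (isInverseOf_symm' hN) hB,
    ZetaAn.ProdCurves.pair_idealMod k i hio hI hB, neg_neg]

variable (κ : C ⟶ CohB1.ProjSpace 1 k)
  (hκ : κ ≫ CohB1.ProjSpace.toSpec 1 k = (C ↘ Spec (CommRingCat.of k)))
  [IsFinite κ] [Flat κ] (hκ2 : ∀ y : ↥(CohB1.ProjSpace 1 k), κ.finrank y = 2)

/-- The class of the inverse image of `O(1)`. -/
noncomputable def lCls : PicLoc.PicSet C :=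
  cls (PicAux.isInvertible_pullback κ (Chow.ToPn.twist_isInvertible (n := 1) (R := k)))

theorem cls_lbPow (s : ℕ) : cls (isInvertible_lbPow κ s) = lCls κ ^ s :=
  cls_tensorPow (PicAux.isInvertible_pullback κ (Chow.ToPn.twist_isInvertible (n := 1) (R := k))) s

theorem pull_lCls (σ : C ⟶ C) (hσ : σ ≫ κ = κ) : pull σ (lCls κ) = lCls κ := by
  unfold lCls
  rw [← pull_cls κ (Chow.ToPn.twist_isInvertible (n := 1) (R := k)), ← pull_comp, hσ]

section Graph

variable (σ : C ⟶ C) (hσp : σ ≫ str k C = str k C)

theorem isClosedImmersion_graph : IsClosedImmersion (graph σ hσp) :=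
  ZetaAn.ProdCurves.isClosedImmersion_of_over' (pullback.fst _ _) _ (graph_fst σ hσp)

include hdim hκ hκ2 in
/-- The conormal module of the graph of a deck endomorphism. -/
theorem pull_cls_ideal_graph (hσ : σ ≫ κ = κ) {γ : ℕ} (hγ : γ + 1 = Curv2.genus k C)
    (hI : PicF.IsInvertible (ClSub.idealMod (graph σ hσp).ker)) :
    pull (graph σ hσp) (cls hI) = lCls κ ^ γ := by
  haveI := isClosedImmersion_graph (k := k) (C := C) (𝟙 C) (Category.id_comp _)
  haveI := isClosedImmersion_graph σ hσp
  have hD : BlowUp.IsEffCartierIdeal (pullback.diagonal (str k C)).ker :=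
    isEffCartierIdeal_of_section hdim _ (pullback.diagonal_fst _)
  have sqr := isPullback_graph σ hσp
  have hk := AdicLinTop.Thickenings.ker_eq_comap_of_isPullback sqr
  obtain ⟨e⟩ := pullback_idealMod _ hD (hk ▸ isEffCartierIdeal_of_section hdim _ (graph_fst σ hσp))
  obtain ⟨eω⟩ := nonempty_lbPow_iso_omega hdim κ hκ hκ2 hγ
  have hΩ : PicF.IsInvertible ((Scheme.Modules.pullback (pullback.diagonal (str k C))).obj
      (ClSub.idealMod (pullback.diagonal (str k C)).ker)) :=
    PicAux.isInvertible_pullback _ (isInvertible_idealMod hD)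
  have h0 : cls hΩ = lCls κ ^ γ := by
    rw [← cls_lbPow]
    exact ((nonempty_iso_iff (isInvertible_lbPow κ γ) hΩ).1 ⟨eω⟩).symm
  have h1 : cls hI = pull (pullback.map (str k C) (str k C) (str k C) (str k C) σ (𝟙 C) (𝟙 _)
      ((Category.comp_id _).trans hσp.symm) (by rw [Category.comp_id, Category.id_comp]))
        (cls (isInvertible_idealMod hD)) := by
    rw [pull_cls]
    exact (nonempty_iso_iff _ _).1 ⟨eqToIso (by rw [hk]) ≪≫ e.symm⟩
  rw [h1, ← pull_comp, sqr.w, pull_comp, pull_cls (pullback.diagonal (str k C)), h0, map_pow,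
    pull_lCls κ σ hσ]

include hdim hκ hκ2 in
theorem pull_cls_graph_inverse (hσ : σ ≫ κ = κ) {γ : ℕ} (hγ : γ + 1 = Curv2.genus k C)
    {N : (sq k C).Modules} (hN : PicF.IsInvertible N)
    (hNinv : ClSub.IsInverseOf N (ClSub.idealMod (graph σ hσp).ker)) :
    pull (graph σ hσp) (cls hN) * lCls κ ^ γ = 1 := by
  haveI := isClosedImmersion_graph σ hσp
  have hI := isInvertible_idealMod (isEffCartierIdeal_of_section hdim _ (graph_fst σ hσp))
  rw [← pull_cls_ideal_graph hdim κ hκ hκ2 σ hσp hσ hγ hI, ← map_mul,
    cls_mul_eq_one hN hI hNinv, map_one]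

include hdim hκ hκ2 in
/-- The self-intersection of the graph of a deck endomorphism. -/
theorem pair_graph_self (hσ : σ ≫ κ = κ) (hg : 1 ≤ Curv2.genus k C) {N : (sq k C).Modules}
    (hN : PicF.IsInvertible N) (hNinv : ClSub.IsInverseOf N (ClSub.idealMod (graph σ hσp).ker)) :
    pair k N N = 2 - 2 * (Curv2.genus k C : ℤ) := by
  obtain ⟨γ, hγ⟩ := Nat.exists_eq_add_of_le' hg
  haveI := isClosedImmersion_graph σ hσp
  rw [pair_inverse_ker hdim _ (graph_over σ hσp)
    (isEffCartierIdeal_of_section hdim _ (graph_fst σ hσp)) hNinv hN]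
  have hB := PicAux.isInvertible_pullback (graph σ hσp) hN
  have h := pull_cls_graph_inverse hdim κ hκ hκ2 σ hσp hσ hγ.symm hN hNinv
  rw [pull_cls, ← cls_lbPow, ← cls_tensorMod hB (isInvertible_lbPow κ γ),
    ← Groth.Abvar.PicCalc.nonempty_iso_structure_iff] at h
  rw [deg_inverse hdim hB (isInvertible_lbPow κ γ) h, deg_lbPow hdim κ hκ hκ2 γ, hγ]
  push_cast
  ring

theorem pull_graph_fst (c : PicLoc.PicSet C) :
    pull (graph σ hσp) (pull (pullback.fst _ _) c) = c := by
  rw [← pull_comp, graph_fst, pull_id]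

theorem pull_graph_snd (c : PicLoc.PicSet C) :
    pull (graph σ hσp) (pull (pullback.snd _ _) c) = pull σ c := by
  rw [← pull_comp, graph_snd]

end Graph

end Curve

end Groth.HypSq
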