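import Groth.Prelude.Def_ClSub2
import Groth.Prelude.Def_Omega4
import Groth.Agent.OmegaSheaf.IdealMod
import Groth.Agent.PicAux.Pullback
import Groth.Agent.PicAux.EffCartierLine
import Groth.Agent.PnCoh.ProjectionFormula
import Groth.Agent.QCohMod.Tensor
import Groth.Agent.Inter.Twist
import Groth.Prelude.Def_DDual2

/-!
# The decomposition of an affine double cover with involution

For an affine morphism `π : X ⟶ S` with an involution `τ` of `X` over `S` whose invariant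
sections are the sections of `S`, and `2` invertible: `π_* O_X = O_S ⊕ E` where `E` is the module of
anti-invariant sections.
-/

set_option autoImplicit false
set_option linter.style.haveILetI false
set_option linter.unusedSectionVars false

universe u

open CategoryTheory CategoryTheory.Limits AlgebraicGeometry TopologicalSpace Opposite

namespace Groth.HypSq

open Groth.PicAux

/-- `2` is a unit in every ring of functions over a scheme where it is a unit. -/
theorem isUnit_two_of {S T : Scheme.{u}} (f : T ⟶ S) (h2 : IsUnit (2 : Γ(S, ⊤))) (U : T.Opens) :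
    IsUnit (2 : Γ(T, U)) := by
  have h := (h2.map (f.app ⊤).hom).map (resX T (le_top : U ≤ ⊤))
  rw [map_ofNat, map_ofNat] at h
  exact h

variable {X S : Scheme.{u}} (π : X ⟶ S) (τ : X ⟶ X) (hτ : τ ≫ π = π)

include hτ in
theorem preimage_le_swap (U : S.Opens) : π ⁻¹ᵁ U ≤ τ ⁻¹ᵁ (π ⁻¹ᵁ U) := by
  rw [← Scheme.Hom.comp_preimage, hτ]

/-- The action of the involution on sections over inverse images. -/
noncomputable def swapSec (U : S.Opens) : Γ(X, π ⁻¹ᵁ U) →+* Γ(X, π ⁻¹ᵁ U) :=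
  (τ.appLE (π ⁻¹ᵁ U) (π ⁻¹ᵁ U) (preimage_le_swap π τ hτ U)).hom

theorem swapSec_app (U : S.Opens) (b : Γ(S, U)) :
    swapSec π τ hτ U (π.app U b) = π.app U b := by
  change (π.app U ≫ τ.appLE (π ⁻¹ᵁ U) (π ⁻¹ᵁ U) _) b = _
  rw [π.app_eq_appLE, Scheme.Hom.appLE_comp_appLE]
  simp only [hτ]

theorem swapSec_res {U V : S.Opens} (h : V ≤ U) (a : Γ(X, π ⁻¹ᵁ U)) :
    swapSec π τ hτ V (resX X (π.preimage_mono h) a) =
      resX X (π.preimage_mono h) (swapSec π τ hτ U a) := by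
  change (X.presheaf.map _ ≫ τ.appLE (π ⁻¹ᵁ V) (π ⁻¹ᵁ V) _) a =
    (τ.appLE (π ⁻¹ᵁ U) (π ⁻¹ᵁ U) _ ≫ X.presheaf.map _) a
  rw [Scheme.Hom.map_appLE, Scheme.Hom.appLE_map]

theorem swapSec_swapSec (hττ : τ ≫ τ = 𝟙 X) (U : S.Opens) (a : Γ(X, π ⁻¹ᵁ U)) :
    swapSec π τ hτ U (swapSec π τ hτ U a) = a := by
  change (τ.appLE (π ⁻¹ᵁ U) (π ⁻¹ᵁ U) _ ≫ τ.appLE (π ⁻¹ᵁ U) (π ⁻¹ᵁ U) _) a = a
  have hc : ∀ {f g : X ⟶ X} (_ : f = g) (W W' : X.Opens) (e : W' ≤ f ⁻¹ᵁ W) (e' : W' ≤ g ⁻¹ᵁ W),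
      f.appLE W W' e = g.appLE W W' e' := by
    rintro f g rfl W W' e e'; rfl
  rw [Scheme.Hom.appLE_comp_appLE]
  exact (congr($(hc hττ (π ⁻¹ᵁ U) (π ⁻¹ᵁ U) _ le_rfl) a)).trans
    (resX_self (X := X) (le_refl (π ⁻¹ᵁ U)) a)

/-- The involution as an endomorphism of `π_* O_X`. -/
noncomputable def swapHom :
    (Scheme.Modules.pushforward π).obj (Coh.structureModule X) ⟶
      (Scheme.Modules.pushforward π).obj (Coh.structureModule X) :=
  ⟨PresheafOfModules.homMk
    { app := fun U => AddCommGrpCat.ofHom (swapSec π τ hτ U.unop).toAddMonoidHom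
      naturality := fun U V i => by
        ext s
        exact swapSec_res π τ hτ (leOfHom i.unop) s }
    (fun U r s => (map_mul (swapSec π τ hτ U.unop) _ _).trans
      (congrArg (· * _) (swapSec_app π τ hτ U.unop r)))⟩

theorem swapHom_app (U : S.Opens) (a : Γ(X, π ⁻¹ᵁ U)) :
    (swapHom π τ hτ).app U a = swapSec π τ hτ U a := rfl

/-- `1 + τ` on `π_* O_X`. -/
noncomputable def plusHom :
    (Scheme.Modules.pushforward π).obj (Coh.structureModule X) ⟶
      (Scheme.Modules.pushforward π).obj (Coh.structureModule X) :=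
  𝟙 _ + swapHom π τ hτ

/-- `1 - τ` on `π_* O_X`. -/
noncomputable def minusHom :
    (Scheme.Modules.pushforward π).obj (Coh.structureModule X) ⟶
      (Scheme.Modules.pushforward π).obj (Coh.structureModule X) :=
  𝟙 _ - swapHom π τ hτ

theorem plusHom_app (U : S.Opens) (a : Γ(X, π ⁻¹ᵁ U)) :
    (plusHom π τ hτ).app U a = a + swapSec π τ hτ U a := rfl

theorem minusHom_app (U : S.Opens) (a : Γ(X, π ⁻¹ᵁ U)) :
    (minusHom π τ hτ).app U a = a - swapSec π τ hτ U a := rfl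

/-- The module of anti-invariant sections. -/
noncomputable def anti : S.Modules := kernel (plusHom π τ hτ)

/-- Anti-invariant sections as functions upstairs. -/
noncomputable def antiSect (U : S.Opens) : Γ(anti π τ hτ, U) →+ Γ(X, π ⁻¹ᵁ U) :=
  (OmegaSh.fnSect X (π ⁻¹ᵁ U)).comp ((kernel.ι (plusHom π τ hτ)).app U).hom

theorem antiSect_injective (U : S.Opens) : Function.Injective (antiSect π τ hτ U) :=
  OmegaSh.ι_app_injective (plusHom π τ hτ) U

theorem antiSect_smul (U : S.Opens) (r : Γ(S, U)) (e : Γ(anti π τ hτ, U)) :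
    antiSect π τ hτ U (r • e) = π.app U r * antiSect π τ hτ U e :=
  Scheme.Modules.Hom.app_smul (kernel.ι (plusHom π τ hτ)) r e

theorem antiSect_res {U V : S.Opens} (h : V ≤ U) (e : Γ(anti π τ hτ, U)) :
    antiSect π τ hτ V (res _ h e) = resX X (π.preimage_mono h) (antiSect π τ hτ U e) :=
  app_res (kernel.ι (plusHom π τ hτ)) h e

theorem swapSec_antiSect (U : S.Opens) (e : Γ(anti π τ hτ, U)) :
    swapSec π τ hτ U (antiSect π τ hτ U e) = - antiSect π τ hτ U e := by
  have h := congr(($(kernel.condition (plusHom π τ hτ))).app U e)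
  exact eq_neg_of_add_eq_zero_right h

theorem exists_antiSect (U : S.Opens) {a : Γ(X, π ⁻¹ᵁ U)} (ha : swapSec π τ hτ U a = -a) :
    ∃ e : Γ(anti π τ hτ, U), antiSect π τ hτ U e = a := by
  have h0 : (plusHom π τ hτ).app U a = 0 := by
    rw [plusHom_app, ha, add_neg_cancel]
    rfl
  exact ⟨OmegaSh.kerLift (plusHom π τ hτ) U a h0, OmegaSh.ι_kerLift _ _ _ _⟩

section Split

variable (hττ : τ ≫ τ = 𝟙 X)
  (hinj : ∀ U : S.Opens, Function.Injective (π.app U).hom)
  (hinv : ∀ (U : S.Opens) (a : Γ(X, π ⁻¹ᵁ U)), swapSec π τ hτ U a = a → ∃ b, π.app U b = a)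
  (h2 : IsUnit (2 : Γ(S, ⊤)))

/-- The sequence `0 → O_S → π_* O_X → E → 0`. -/
noncomputable def splitSeq : ShortComplex S.Modules :=
  ShortComplex.mk (ClSub.unitToPush π)
    (kernel.lift (plusHom π τ hτ) (minusHom π τ hτ) (by
      refine Scheme.Modules.hom_ext _ _ fun U => ?_
      ext a
      change (plusHom π τ hτ).app U ((minusHom π τ hτ).app U a) = 0
      rw [minusHom_app, plusHom_app, map_sub, swapSec_swapSec π τ hτ hττ]
      change (_ - _) + (_ - _) = (0 : Γ(X, π ⁻¹ᵁ U))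
      ring))
    (by
      rw [← cancel_mono (kernel.ι (plusHom π τ hτ)), Category.assoc, kernel.lift_ι, zero_comp]
      refine Scheme.Modules.hom_ext _ _ fun U => ?_
      ext b
      change (minusHom π τ hτ).app U (π.app U b) = 0
      rw [minusHom_app, swapSec_app, sub_self]
      rfl)

include hinj in
theorem mono_unitToPush : Mono (ClSub.unitToPush π) := by
  refine ⟨fun {Z} g h e => ?_⟩
  refine Scheme.Modules.hom_ext _ _ fun U => ?_
  ext z
  exact hinj U (congr(($e).app U z))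

include hinj hinv in
theorem exact_splitSeq : (splitSeq π τ hτ hττ).Exact := by
  haveI := mono_unitToPush π hinj
  refine ShortComplex.exact_of_f_is_kernel _ ?_
  have hz : ClSub.unitToPush π ≫ (splitSeq π τ hτ hττ).g = 0 := (splitSeq π τ hτ hττ).zero
  haveI : IsIso (kernel.lift (splitSeq π τ hτ hττ).g (ClSub.unitToPush π) hz) := by
    rw [Scheme.Modules.Hom.isIso_iff_isIso_app]
    intro U
    rw [ConcreteCategory.isIso_iff_bijective]
    have key : ∀ b, (kernel.ι (splitSeq π τ hτ hττ).g).app U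
        ((kernel.lift (splitSeq π τ hτ hττ).g (ClSub.unitToPush π) hz).app U b) = π.app U b :=
      fun b => congr(($(kernel.lift_ι (splitSeq π τ hτ hττ).g (ClSub.unitToPush π) hz)).app U b)
    constructor
    · intro b b' e
      exact hinj U ((key b).symm.trans ((congrArg _ e).trans (key b')))
    · intro z
      let a : Γ(X, π ⁻¹ᵁ U) := (kernel.ι (splitSeq π τ hτ hττ).g).app U z
      have h1 : (kernel.ι (plusHom π τ hτ)).app U ((splitSeq π τ hτ hττ).g.app U a) = 0 :=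
        (congrArg _ (show (splitSeq π τ hτ hττ).g.app U a = 0 from
          congr(($(kernel.condition (splitSeq π τ hτ hττ).g)).app U z))).trans (map_zero _)
      have h2' : (minusHom π τ hτ).app U a = 0 :=
        (congr(($(kernel.lift_ι (plusHom π τ hτ) (minusHom π τ hτ) _)).app U a)).symm.trans h1
      obtain ⟨b, hb⟩ := hinv U a (sub_eq_zero.1 h2').symm
      exact ⟨b, OmegaSh.ι_app_injective _ U ((key b).trans hb)⟩
  exact IsLimit.ofIsoLimit (kernelIsKernel (splitSeq π τ hτ hττ).g)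
    (Fork.ext (s := Fork.ofι (kernel.ι (splitSeq π τ hτ hττ).g) _)
      (t := KernelFork.ofι (ClSub.unitToPush π) hz)
      (asIso (kernel.lift (splitSeq π τ hτ hττ).g (ClSub.unitToPush π) hz)).symm
      (by
        rw [Iso.symm_hom, asIso_inv, IsIso.inv_comp_eq]
        exact (kernel.lift_ι _ _ _).symm))

include h2 in
theorem isIso_ι_comp :
    IsIso (kernel.ι (plusHom π τ hτ) ≫ (splitSeq π τ hτ hττ).g) := by
  have key : ∀ (U : S.Opens) (e : Γ(anti π τ hτ, U)),
      antiSect π τ hτ U ((kernel.ι (plusHom π τ hτ) ≫ (splitSeq π τ hτ hττ).g).app U e) =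
        2 * antiSect π τ hτ U e := fun U e => by
    refine (congr(($(kernel.lift_ι (plusHom π τ hτ) (minusHom π τ hτ) _)).app U
      ((kernel.ι (plusHom π τ hτ)).app U e))).trans ?_
    rw [minusHom_app]
    change antiSect π τ hτ U e - swapSec π τ hτ U (antiSect π τ hτ U e) = _
    rw [swapSec_antiSect, two_mul, sub_neg_eq_add]
  rw [Scheme.Modules.Hom.isIso_iff_isIso_app]
  intro U
  rw [ConcreteCategory.isIso_iff_bijective]
  have hu := isUnit_two_of π h2 (π ⁻¹ᵁ U)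
  obtain ⟨v, hv⟩ := isUnit_two_of (𝟙 S) h2 U
  constructor
  · intro e e' h
    refine antiSect_injective π τ hτ U (hu.mul_left_cancel ?_)
    rw [← key, ← key]
    exact congrArg _ h
  · intro e
    refine ⟨(v⁻¹ : (Γ(S, U))ˣ) • e, antiSect_injective π τ hτ U ?_⟩
    refine (key U _).trans ((congrArg (2 * ·) (antiSect_smul π τ hτ U (↑(v⁻¹)) e)).trans ?_)
    rw [← mul_assoc]
    have h1 : (π.app U).hom (2 : Γ(S, U)) = 2 := map_ofNat _ 2
    rw [← h1, ← map_mul, ← hv, Units.mul_inv, map_one, one_mul]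

/-- The splitting. -/
noncomputable def splitting : (splitSeq π τ hτ hττ).Splitting :=
  haveI := mono_unitToPush π hinj
  haveI : Mono (splitSeq π τ hτ hττ).f := this
  haveI := isIso_ι_comp π τ hτ hττ h2
  ShortComplex.Splitting.ofExactOfSection _ (exact_splitSeq π τ hτ hττ hinj hinv)
    (inv (kernel.ι (plusHom π τ hτ) ≫ (splitSeq π τ hτ hττ).g) ≫ kernel.ι (plusHom π τ hτ))
    ((Category.assoc _ _ _).trans (IsIso.inv_hom_id _)) inferInstance

include hττ hinj hinv h2 in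
/-- `π_* π^* M` splits as `M` and `M ⊗ E`. -/
theorem exists_split_pullback {M : S.Modules} (hM : PicF.IsInvertible M) :
    ∃ T : ShortComplex S.Modules, Nonempty T.Splitting ∧ Nonempty (T.X₁ ≅ M) ∧
      Nonempty (T.X₂ ≅ (Scheme.Modules.pushforward π).obj ((Scheme.Modules.pullback π).obj M)) ∧
      Nonempty (T.X₃ ≅ CohB1.tensorMod (anti π τ hτ) M) := by
  obtain ⟨e, -⟩ := Groth.PnCoh.exists_projectionFormula π (Coh.structureModule X) hM
  exact ⟨(splitSeq π τ hτ hττ).map (DCoh.tensorRightMod M),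
    ⟨(splitting π τ hτ hττ hinj hinv h2).map _⟩, ⟨(Groth.Inter.tensor_one M).some⟩,
    ⟨e ≪≫ (Scheme.Modules.pushforward π).mapIso (Groth.Inter.tensor_one _).some⟩, ⟨Iso.refl _⟩⟩

end Split

section Ideal

variable {C : Scheme.{u}} (i : C ⟶ X) [IsClosedImmersion i] (hi : i ≫ τ = i)
  (h2 : IsUnit (2 : Γ(S, ⊤)))

include hi h2 in
/-- Anti-invariant sections vanish on the fixed locus. -/
theorem app_anti_eq_zero (U : S.Opens) {a : Γ(X, π ⁻¹ᵁ U)} (ha : swapSec π τ hτ U a = -a) :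
    i.app (π ⁻¹ᵁ U) a = 0 := by
  have h : i.app (π ⁻¹ᵁ U) (swapSec π τ hτ U a) = i.app (π ⁻¹ᵁ U) a := by
    change (τ.appLE (π ⁻¹ᵁ U) (π ⁻¹ᵁ U) _ ≫ i.app (π ⁻¹ᵁ U)) a = _
    rw [i.app_eq_appLE, Scheme.Hom.appLE_comp_appLE]
    simp only [hi]
  rw [ha, map_neg] at h
  have h' : (2 : Γ(C, i ⁻¹ᵁ (π ⁻¹ᵁ U))) * i.app (π ⁻¹ᵁ U) a = 0 := by
    rw [two_mul]
    nth_rewrite 2 [← h]
    rw [add_neg_cancel]
  exact (isUnit_two_of (i ≫ π) h2 _).mul_right_eq_zero.1 h'

include hi h2 in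
theorem exists_idealSect_anti (U : S.Opens) (e : Γ(anti π τ hτ, U)) :
    ∃ k : Γ(ClSub.idealMod i.ker, π ⁻¹ᵁ U),
      OmegaSh.idealSect i.ker (π ⁻¹ᵁ U) k = antiSect π τ hτ U e := by
  refine Groth.OmegaSheaf.exists_idealSect_eq i.ker _ _ ?_
  have h := app_anti_eq_zero π τ hτ i hi h2 U (swapSec_antiSect π τ hτ U e)
  have ht : i.toImage ≫ i.imageι = i := i.toImage_imageι
  haveI : IsIso i.toImage := inferInstance
  have hle : i ⁻¹ᵁ (π ⁻¹ᵁ U) = i.toImage ⁻¹ᵁ (i.imageι ⁻¹ᵁ (π ⁻¹ᵁ U)) :=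
    (congrArg (· ⁻¹ᵁ (π ⁻¹ᵁ U)) ht).symm.trans (Scheme.Hom.comp_preimage _ _ _)
  have h' : i.toImage.appLE (i.imageι ⁻¹ᵁ (π ⁻¹ᵁ U)) (i ⁻¹ᵁ (π ⁻¹ᵁ U)) hle.le
      (i.imageι.appLE (π ⁻¹ᵁ U) _ le_rfl (antiSect π τ hτ U e)) = 0 := by
    rw [← ConcreteCategory.comp_apply, Scheme.Hom.appLE_comp_appLE]
    simp only [ht]
    rw [← i.app_eq_appLE]
    exact h
  rw [← i.imageι.app_eq_appLE] at h'
  refine (injective_iff_map_eq_zero _).1 ?_ _ h'
  rw [Scheme.Hom.appLE]
  haveI : IsIso (homOfLE hle.le) := ⟨homOfLE hle.ge, rfl, rfl⟩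
  exact (ConcreteCategory.bijective_of_isIso _).1

variable (hinv : ∀ (U : S.Opens) (a : Γ(X, π ⁻¹ᵁ U)), swapSec π τ hτ U a = a → ∃ b, π.app U b = a)
  (hinj : ∀ U : S.Opens, Function.Injective (π.app U).hom)

include hi h2 hinv hinj in
/-- An anti-invariant generator of the ideal of the fixed locus generates the anti-invariant
sections. -/
theorem gen_anti {W : S.Opens} {e : Γ(anti π τ hτ, W)} {k : Γ(ClSub.idealMod i.ker, π ⁻¹ᵁ W)}
    (hk : Gen (ClSub.idealMod i.ker) (π ⁻¹ᵁ W) k)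
    (he : OmegaSh.idealSect i.ker (π ⁻¹ᵁ W) k = antiSect π τ hτ W e) :
    Gen (anti π τ hτ) W e := by
  intro V hV
  let a : Γ(X, π ⁻¹ᵁ V) := antiSect π τ hτ V (res _ hV e)
  have ha : OmegaSh.idealSect i.ker (π ⁻¹ᵁ V) (res _ (π.preimage_mono hV) k) = a := by
    rw [idealSect_res', he]
    exact (antiSect_res π τ hτ hV e).symm
  have hr : ∀ r r' : Γ(X, π ⁻¹ᵁ V), r * a = r' * a → r = r' := fun r r' h =>
    hk.smul_inj (π.preimage_mono hV) (Groth.OmegaSheaf.idealSect_injective i.ker _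
      (by rw [Groth.OmegaSheaf.idealSect_smul, Groth.OmegaSheaf.idealSect_smul, ha]; exact h))
  refine ⟨fun b b' h => hinj V (hr _ _ ?_), fun t => ?_⟩
  · have := congrArg (antiSect π τ hτ V) h
    rw [antiSect_smul, antiSect_smul] at this
    exact this
  · obtain ⟨m, hm⟩ := exists_idealSect_anti π τ hτ i hi h2 V t
    obtain ⟨r, hr'⟩ := hk.exists_coeff (π.preimage_mono hV) m
    rw [hr', Groth.OmegaSheaf.idealSect_smul, ha] at hm
    have hs : swapSec π τ hτ V r = r := by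
      refine hr _ _ ?_
      have h1 := swapSec_antiSect π τ hτ V t
      rw [← hm, map_mul, show swapSec π τ hτ V a = -a from swapSec_antiSect π τ hτ V _,
        mul_neg, neg_inj] at h1
      exact h1
    obtain ⟨b, rfl⟩ := hinv V r hs
    refine ⟨b, antiSect_injective π τ hτ V ?_⟩
    rw [antiSect_smul]
    exact hm

include hi h2 hinv hinj in
/-- Generators of the ideal given by anti-invariant sections make `E` invertible with
`π^* E ≅ I`. -/
theorem anti_invertible_of_gen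
    (h : ∀ y : S, ∃ (W : S.Opens) (e : Γ(anti π τ hτ, W))
      (k : Γ(ClSub.idealMod i.ker, π ⁻¹ᵁ W)), y ∈ W ∧ Gen (ClSub.idealMod i.ker) (π ⁻¹ᵁ W) k ∧
        OmegaSh.idealSect i.ker (π ⁻¹ᵁ W) k = antiSect π τ hτ W e) :
    PicF.IsInvertible (anti π τ hτ) ∧
      Nonempty ((Scheme.Modules.pullback π).obj (anti π τ hτ) ≅ ClSub.idealMod i.ker) := by
  choose W e k hy hk he using h
  have hE : ∀ y, Gen (anti π τ hτ) (W y) (e y) := fun y =>
    gen_anti π τ hτ i hi h2 hinv hinj (hk y) (he y)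
  have hW : iSup W = ⊤ := eq_top_iff.2 fun y _ => Opens.mem_iSup.2 ⟨y, hy y⟩
  refine ⟨isInvertible_of_gen_cover W hW e hE, ?_⟩
  have hW' : (⨆ y, π ⁻¹ᵁ W y) = ⊤ := eq_top_iff.2 fun z _ => Opens.mem_iSup.2 ⟨π z, hy (π z)⟩
  obtain ⟨φ, -⟩ := exists_iso_of_gen (U := fun y => π ⁻¹ᵁ W y) hW'
    (fun y => pullSec π (anti π τ hτ) (e y)) (fun y => (hE y).pull π) k hk fun y z r hr => by
      obtain ⟨c, hc⟩ := (hE z).exists_coeff inf_le_right
        (res _ (inf_le_left : W y ⊓ W z ≤ W y) (e y))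
      have h1 : r = π.app (W y ⊓ W z) c := by
        refine (((hE z).res inf_le_right).pull π).smul_inj (le_refl (π ⁻¹ᵁ (W y ⊓ W z))) ?_
        simp only [res_self]
        rw [← pullSec_smul, ← hc, ← res_pullSec, ← res_pullSec]
        exact hr.symm
      refine Groth.OmegaSheaf.idealSect_injective i.ker _ ?_
      rw [Groth.OmegaSheaf.idealSect_smul, idealSect_res', idealSect_res', he, he, h1]
      have h3 := congrArg (antiSect π τ hτ _) hc
      rw [antiSect_smul, antiSect_res, antiSect_res] at h3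
      exact h3
  exact ⟨φ⟩

end Ideal

end Groth.HypSq
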