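import Groth.Prelude.Def_SGA1
import Groth.Agent.Pi1Quot.Basic
import Groth.Agent.Pi1Quot.Descend
import Groth.Agent.AlgSpBasic.DimIntegral
import Groth.Agent.PicAux.GenLocal
import Groth.Agent.HypSq.Surface
import Groth.Agent.HypSq.SymSplit

/-!
# The symmetric square of a curve

Basic properties of a quotient `π : C × C ⟶ S` by the swap, and generators of the module of
anti-invariant sections.
-/

set_option autoImplicit false
set_option linter.style.haveILetI false
set_option linter.unusedSectionVars false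

universe u

open CategoryTheory CategoryTheory.Limits AlgebraicGeometry TopologicalSpace Opposite

namespace Groth.HypSq

open Groth.PicAux

variable {k : Type u} [Field k] {C : Scheme.{u}} [C.Over (Spec (CommRingCat.of k))]

/-- The swap of the factors. -/
noncomputable abbrev sqSwap (k : Type u) [Field k] (C : Scheme.{u})
    [C.Over (Spec (CommRingCat.of k))] : sq k C ⟶ sq k C :=
  (pullbackSymmetry (str k C) (str k C)).hom

theorem sqSwap_sqSwap : sqSwap k C ≫ sqSwap k C = 𝟙 _ := by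
  apply pullback.hom_ext <;> simp [sqSwap]

theorem graph_id_sqSwap : graph (k := k) (𝟙 C) (Category.id_comp _) ≫ sqSwap k C =
    graph (k := k) (𝟙 C) (Category.id_comp _) := by
  apply pullback.hom_ext <;> simp [sqSwap, graph, pullback.lift_fst, pullback.lift_snd]

theorem diagonal_eq_graph : pullback.diagonal (str k C) = graph (k := k) (𝟙 C) (Category.id_comp _) :=
  rfl

theorem eq_one_or_swap (g : ULift.{u} (Equiv.Perm (Fin 2))) :
    g = 1 ∨ g = ULift.up (Equiv.swap 0 1) := by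
  obtain ⟨g⟩ := g
  have : ∀ h : Equiv.Perm (Fin 2), h = 1 ∨ h = Equiv.swap 0 1 := by decide
  rcases this g with rfl | rfl
  · exact Or.inl rfl
  · exact Or.inr rfl

section Quot

variable {ρ : ULift.{u} (Equiv.Perm (Fin 2)) →* Aut (sq k C)}
  (hρ : (ρ (ULift.up (Equiv.swap 0 1))).hom = sqSwap k C)
  {Sq : Scheme.{u}} {π : sq k C ⟶ Sq} (hπ : SGA1.IsQuot ρ π)

include hρ hπ in
theorem swap_comp : sqSwap k C ≫ π = π := hρ ▸ hπ.inv _

include hρ hπ in
theorem exists_app_of_swap (U : Sq.Opens) (a : Γ(sq k C, π ⁻¹ᵁ U))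
    (ha : swapSec π (sqSwap k C) (swap_comp hρ hπ) U a = a) : ∃ b, π.app U b = a := by
  refine (hπ.range_iff U a).2 fun g => ?_
  rcases eq_one_or_swap g with rfl | rfl
  · have h1 : (ρ (1 : ULift.{u} (Equiv.Perm (Fin 2)))).hom = 𝟙 (sq k C) := by rw [map_one]; rfl
    exact (congr($(Groth.Pi1Quot.appLE_congr_hom h1 (π ⁻¹ᵁ U) (π ⁻¹ᵁ U) _ le_rfl) a)).trans
      (resX_self (X := sq k C) (le_refl (π ⁻¹ᵁ U)) a)
  · exact (congr($(Groth.Pi1Quot.appLE_congr_hom hρ (π ⁻¹ᵁ U) (π ⁻¹ᵁ U) _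
      (preimage_le_swap π (sqSwap k C) (swap_comp hρ hπ) U)) a)).trans ha

include hρ hπ in
theorem eq_or_swap_of_eq {x x' : ↥(sq k C)} (h : π x = π x') : x' = x ∨ x' = sqSwap k C x := by
  obtain ⟨g, hg⟩ := Groth.Pi1Quot.exists_smul_eq hπ h
  rcases eq_one_or_swap g with rfl | rfl
  · left
    rw [map_one] at hg
    exact hg.symm
  · right
    rw [hρ] at hg
    exact hg.symm

variable (q : Sq ⟶ Spec (CommRingCat.of k))
  (hq : π ≫ q = pullback.fst (str k C) (str k C) ≫ str k C)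
  [IsAlgClosed k] [IsProper (C ↘ Spec (CommRingCat.of k))]
  [Smooth (C ↘ Spec (CommRingCat.of k))] [ConnectedSpace ↥C]

include hπ hq in
theorem isFinite_quot : IsFinite π := by
  haveI : LocallyOfFiniteType (π ≫ q) := by rw [hq]; infer_instance
  exact Groth.Pi1Quot.isFinite_of_comp hπ q

include hπ hq in
theorem isProper_quot : IsProper q := by
  haveI : IsProper (π ≫ q) := by rw [hq]; infer_instance
  haveI := Groth.Pi1Quot.surjective hπ
  haveI := Groth.Pi1Quot.isSeparated_of_comp hπ q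
  haveI := Groth.Pi1Quot.locallyOfFiniteType_quot hπ q
  haveI : UniversallyClosed q := UniversallyClosed.of_comp_surjective π q
  exact {}

include hπ in
theorem isIntegral_quot : IsIntegral Sq := by
  haveI := isIntegral_sq k C
  haveI := Groth.Pi1Quot.surjective hπ
  haveI : IsReduced Sq :=
    ⟨fun U => isReduced_of_injective (π.app U).hom (hπ.injective U)⟩
  haveI : IrreducibleSpace ↥Sq := by
    haveI : Nonempty ↥Sq := ⟨π (Classical.arbitrary _)⟩
    exact π.surjective.irreducibleSpace π.continuous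
  exact isIntegral_of_irreducibleSpace_of_isReduced Sq

variable (hdim : topologicalKrullDim ↥C = 1)

include hπ hdim in
theorem dim_quot_le : topologicalKrullDim ↥Sq ≤ ((2 : ℕ) : WithBot ℕ∞) := by
  haveI := Groth.Pi1Quot.isIntegralHom hπ
  haveI := Groth.Pi1Quot.surjective hπ
  exact (Groth.AlgSpBasic.topologicalKrullDim_le_of_integral_surjective π).trans (dim_sq_le hdim)

include hπ hq in
theorem isUnit_two (h2 : (2 : k) ≠ 0) : IsUnit (2 : Γ(Sq, ⊤)) := by
  have h := (h2.isUnit).map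
    (((Scheme.ΓSpecIso (CommRingCat.of k)).inv ≫ q.app ⊤).hom : k →+* Γ(Sq, q ⁻¹ᵁ ⊤))
  rw [map_ofNat] at h
  exact h

/-- An anti-invariant function which generates the ideal of the diagonal near a point. -/
theorem exists_anti_gen_at (W₀ : Sq.Opens) (hW₀ : IsAffineOpen W₀) (x : ↥(sq k C))
    (hx : π x ∈ W₀) (hρ : (ρ (ULift.up (Equiv.swap 0 1))).hom = sqSwap k C)
    (hπ : SGA1.IsQuot ρ π) (hdim : topologicalKrullDim ↥C = 1) :
    ∃ (f : Γ(sq k C, π ⁻¹ᵁ W₀))
      (f' : Γ(ClSub.idealMod (pullback.diagonal (str k C)).ker, π ⁻¹ᵁ W₀))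
      (V : (sq k C).Opens) (hV : V ≤ π ⁻¹ᵁ W₀), x ∈ V ∧
      swapSec π (sqSwap k C) (swap_comp hρ hπ) W₀ f = -f ∧
      OmegaSh.idealSect _ (π ⁻¹ᵁ W₀) f' = f ∧ Gen _ V (res _ hV f') := by
  haveI := isClosedImmersion_graph (k := k) (C := C) (𝟙 C) (Category.id_comp _)
  haveI : IsClosedImmersion (pullback.diagonal (str k C)) := diagonal_eq_graph (k := k) (C := C) ▸ this
  haveI := hπ.affine
  have hD : BlowUp.IsEffCartierIdeal (pullback.diagonal (str k C)).ker :=
    isEffCartierIdeal_of_section hdim _ (pullback.diagonal_fst _)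
  let τ := sqSwap k C
  have hτ : τ ≫ π = π := swap_comp hρ hπ
  have hW : IsAffineOpen (π ⁻¹ᵁ W₀) := hW₀.preimage π
  let sw := swapSec π τ hτ W₀
  let J : Ideal Γ(sq k C, π ⁻¹ᵁ W₀) := Ideal.span (Set.range fun a => a - sw a)
  have hJ : (pullback.diagonal (str k C)).ker.ideal (⟨_, hW⟩ : (sq k C).affineOpens) = J := by
    refine le_antisymm (fun d hd => ?_) (Ideal.span_le.2 ?_)
    · let φ : Γ(sq k C, π ⁻¹ᵁ W₀) ⟶ CommRingCat.of (Γ(sq k C, π ⁻¹ᵁ W₀) ⧸ J) :=
        CommRingCat.ofHom (Ideal.Quotient.mk J)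
      have hsw : τ.appLE (π ⁻¹ᵁ W₀) (π ⁻¹ᵁ W₀) (preimage_le_swap π τ hτ W₀) ≫ φ = φ := by
        ext a
        change Ideal.Quotient.mk J (sw a) = Ideal.Quotient.mk J a
        exact (Ideal.Quotient.eq.2 (Ideal.subset_span (Set.mem_range_self a) : a - sw a ∈ J)).symm
      let j := Spec.map φ ≫ hW.fromSpec
      have hj : j ≫ τ = j := by
        change (Spec.map φ ≫ hW.fromSpec) ≫ τ = _
        rw [Category.assoc, ← IsAffineOpen.SpecMap_appLE_fromSpec τ hW hW
          (preimage_le_swap π τ hτ W₀), ← Spec.map_comp_assoc, hsw]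
      have hj' : j = (j ≫ pullback.fst _ _) ≫ pullback.diagonal (str k C) := by
        apply pullback.hom_ext
        · exact ((Category.assoc _ _ _).trans ((congrArg (fun z => (j ≫ pullback.fst _ _) ≫ z)
            (pullback.diagonal_fst (str k C))).trans (Category.comp_id _))).symm
        · refine Eq.trans ?_ ((Category.assoc _ _ _).trans ((congrArg
            (fun z => (j ≫ pullback.fst _ _) ≫ z)
            (pullback.diagonal_snd (str k C))).trans (Category.comp_id _))).symm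
          conv_lhs => rw [← hj]
          exact (Category.assoc _ _ _).trans (congrArg (j ≫ ·)
            (pullbackSymmetry_hom_comp_snd (str k C) (str k C)))
      have hd' : j.app (π ⁻¹ᵁ W₀) d = 0 := by
        rw [Scheme.Hom.ker_apply, RingHom.mem_ker] at hd
        have key : ((j ≫ pullback.fst _ _) ≫ pullback.diagonal (str k C)).app (π ⁻¹ᵁ W₀) d = 0 := by
          rw [Scheme.Hom.comp_app]
          exact (congrArg ((j ≫ pullback.fst (str k C) (str k C)).app _) hd).trans (map_zero _)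
        have hz : ∀ {j' : Spec (CommRingCat.of (Γ(sq k C, π ⁻¹ᵁ W₀) ⧸ J)) ⟶ sq k C}, j = j' →
            j'.app (π ⁻¹ᵁ W₀) d = 0 → j.app (π ⁻¹ᵁ W₀) d = 0 := by
          rintro j' rfl h; exact h
        exact hz hj' key
      have h2 : j.appLE (π ⁻¹ᵁ W₀) ⊤ (by
          change ⊤ ≤ Spec.map φ ⁻¹ᵁ (hW.fromSpec ⁻¹ᵁ (π ⁻¹ᵁ W₀))
          rw [hW.fromSpec_preimage_self]; exact le_rfl) ≫ (Scheme.ΓSpecIso _).hom = φ := by
        change (Spec.map φ ≫ hW.fromSpec).appLE (π ⁻¹ᵁ W₀) ⊤ _ ≫ _ = _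
        rw [← Scheme.Hom.appLE_comp_appLE (Spec.map φ) hW.fromSpec (π ⁻¹ᵁ W₀) ⊤ ⊤
          (by rw [hW.fromSpec_preimage_self]) le_rfl]
        simp only [Scheme.Hom.appLE, hW.fromSpec_app_self, Category.assoc]
        simp
        rw [← Functor.map_comp_assoc, Subsingleton.elim (_ ≫ _) (𝟙 _), CategoryTheory.Functor.map_id]
        simp
      have h3 := congr($h2 d)
      rw [ConcreteCategory.comp_apply, Scheme.Hom.appLE, ConcreteCategory.comp_apply, hd',
        map_zero, map_zero] at h3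
      exact Ideal.Quotient.eq_zero_iff_mem.1 h3.symm
    · rintro _ ⟨a, rfl⟩
      rw [SetLike.mem_coe, Scheme.Hom.ker_apply, RingHom.mem_ker, map_sub, sub_eq_zero]
      refine Eq.symm ?_
      change (τ.appLE (π ⁻¹ᵁ W₀) (π ⁻¹ᵁ W₀) _ ≫ (pullback.diagonal (str k C)).app _) a = _
      rw [(pullback.diagonal (str k C)).app_eq_appLE, Scheme.Hom.appLE_comp_appLE]
      simp only [show pullback.diagonal (str k C) ≫ τ = pullback.diagonal (str k C) from
        graph_id_sqSwap]
  obtain ⟨U, hxU, hUW, d, hd, hnd, hId⟩ := exists_gen_idealMod hD x (π ⁻¹ᵁ W₀) hx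
  have hmap : Ideal.span (resX (sq k C) hUW '' Set.range fun a => a - sw a) =
      Ideal.span {OmegaSh.idealSect _ U.1 d} := by
    rw [← hId, ← (pullback.diagonal (str k C)).ker.map_ideal (U := U) (V := ⟨_, hW⟩) hUW, hJ,
      Ideal.map_span]
    rfl
  have hc : ∀ a, ∃ c, c * OmegaSh.idealSect _ U.1 d = resX (sq k C) hUW (a - sw a) := fun a =>
    Ideal.mem_span_singleton'.1 (hmap.le (Ideal.subset_span ⟨_, ⟨a, rfl⟩, rfl⟩))
  choose c hc using hc
  have hm : OmegaSh.idealSect _ U.1 d ∈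
      Ideal.span (Set.range c) * Ideal.span {OmegaSh.idealSect _ U.1 d} := by
    rw [Ideal.span_mul_span']
    refine Ideal.span_mono ?_ (hmap.ge (Ideal.mem_span_singleton_self _))
    rintro _ ⟨_, ⟨a, rfl⟩, rfl⟩
    exact ⟨c a, ⟨a, rfl⟩, _, rfl, hc a⟩
  obtain ⟨m, hm, hmd⟩ := Ideal.mem_mul_span_singleton.1 hm
  have h1 : m = 1 :=
    (mul_cancel_right_mem_nonZeroDivisors hnd.mem_nonZeroDivisors).1 (hmd.trans (one_mul _).symm)
  have htop : Ideal.span (Set.range c) = ⊤ := (Ideal.eq_top_iff_one _).2 (h1 ▸ hm)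
  obtain ⟨⟨_, a, rfl⟩, hxa⟩ := Opens.mem_iSup.1 ((U.2.self_le_iSup_basicOpen_iff).2 htop hxU)
  obtain ⟨f', hf'⟩ := Groth.OmegaSheaf.exists_idealSect (pullback.diagonal (str k C)).ker
    ⟨_, hW⟩ (x := a - sw a) (hJ ▸ Ideal.subset_span ⟨a, rfl⟩)
  have hV : (sq k C).basicOpen (c a) ≤ U.1 := (sq k C).basicOpen_le _
  refine ⟨a - sw a, f', (sq k C).basicOpen (c a), hV.trans hUW, hxa, ?_, hf', ?_⟩
  · rw [map_sub, swapSec_swapSec π τ hτ sqSwap_sqSwap, neg_sub]
  · have hu : IsUnit (resX (sq k C) hV (c a)) := RingedSpace.isUnit_res_basicOpen _ (c a)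
    convert (hd.res hV).smul_unit hu using 1
    refine Groth.OmegaSheaf.idealSect_injective _ _ ?_
    rw [idealSect_res', Groth.OmegaSheaf.idealSect_smul, idealSect_res', ← map_mul, hc, resX_resX]
    exact congrArg _ hf'

theorem exists_anti_gen (hρ : (ρ (ULift.up (Equiv.swap 0 1))).hom = sqSwap k C)
    (hπ : SGA1.IsQuot ρ π) (hdim : topologicalKrullDim ↥C = 1)
    (hq : π ≫ q = pullback.fst (str k C) (str k C) ≫ str k C) (y : ↥Sq) :
    ∃ (W : Sq.Opens) (e : Γ(anti π (sqSwap k C) (swap_comp hρ hπ), W))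
      (f' : Γ(ClSub.idealMod (pullback.diagonal (str k C)).ker, π ⁻¹ᵁ W)), y ∈ W ∧
      Gen _ (π ⁻¹ᵁ W) f' ∧
      OmegaSh.idealSect _ (π ⁻¹ᵁ W) f' = antiSect π (sqSwap k C) (swap_comp hρ hπ) W e := by
  haveI := isClosedImmersion_graph (k := k) (C := C) (𝟙 C) (Category.id_comp _)
  haveI : IsClosedImmersion (pullback.diagonal (str k C)) := diagonal_eq_graph (k := k) (C := C) ▸ this
  haveI := Groth.Pi1Quot.surjective hπ
  haveI := isFinite_quot hπ q hq
  let τ := sqSwap k C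
  have hτ : τ ≫ π = π := swap_comp hρ hπ
  obtain ⟨x, hxy⟩ := π.surjective y
  obtain ⟨_, ⟨W₀, hW₀, rfl⟩, hyW₀, -⟩ :=
    Sq.isBasis_affineOpens.exists_subset_of_mem_open (Set.mem_univ y) isOpen_univ
  obtain ⟨f, f', V, hV, hxV, hf, hf', hgen⟩ :=
    exists_anti_gen_at W₀ hW₀ x (hxy ▸ hyW₀) hρ hπ hdim
  let B := (sq k C).basicOpen f
  have hB : B ≤ π ⁻¹ᵁ W₀ := (sq k C).basicOpen_le f
  have hBgen : Gen (ClSub.idealMod (pullback.diagonal (str k C)).ker) B (res _ hB f') := by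
    intro O hO
    have hu : IsUnit (resX (sq k C) (hO.trans hB) f) := by
      have := (show IsUnit (resX (sq k C) hB f) from RingedSpace.isUnit_res_basicOpen _ f).map
        (resX (sq k C) hO)
      exact (resX_resX hB hO f).symm ▸ this
    have hi : ∀ r : Γ(sq k C, O), OmegaSh.idealSect _ O (r • res _ hO (res _ hB f')) =
        r * resX (sq k C) (hO.trans hB) f := fun r => by
      rw [res_res, Groth.OmegaSheaf.idealSect_smul, idealSect_res', hf']
    refine ⟨fun r r' h => hu.mul_right_cancel (by rw [← hi, ← hi]; exact congrArg _ h), fun t => ?_⟩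
    refine ⟨OmegaSh.idealSect _ O t * ↑hu.unit⁻¹, Groth.OmegaSheaf.idealSect_injective _ _ ?_⟩
    rw [hi, mul_assoc, hu.val_inv_mul, mul_one]
  have hfib : ∀ z, π z = y → z ∈ V ⊔ B := by
    intro z hz
    rcases eq_or_swap_of_eq hρ hπ (hxy.trans hz.symm) with rfl | rfl
    · exact Or.inl hxV
    by_cases hxB : x ∈ B
    · right
      have h : τ ⁻¹ᵁ B ⊓ π ⁻¹ᵁ W₀ = B := by
        rw [inf_comm, show τ ⁻¹ᵁ B = _ from τ.preimage_basicOpen f,
          ← Scheme.basicOpen_res _ _ (homOfLE (preimage_le_swap π τ hτ W₀)).op]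
        refine (congrArg (sq k C).basicOpen hf).trans ?_
        rw [show -f = (-1 : Γ(sq k C, π ⁻¹ᵁ W₀)) * f by rw [neg_one_mul], Scheme.basicOpen_mul,
          Scheme.basicOpen_of_isUnit _ isUnit_one.neg]
        exact inf_eq_right.2 hB
      exact ((h.symm ▸ hxB : x ∈ τ ⁻¹ᵁ B ⊓ π ⁻¹ᵁ W₀)).1
    left
    suffices τ x = x by rw [this]; exact hxV
    by_contra hne
    have hxr : x ∉ Set.range (pullback.diagonal (str k C)) := by
      rintro ⟨c, rfl⟩
      exact hne (congr(($(graph_id_sqSwap (k := k) (C := C))).base c))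
    obtain ⟨U, hxU, hUV⟩ := Divisors.exists_affine_le x
      (V ⊓ ⟨(Set.range (pullback.diagonal (str k C)))ᶜ,
        (pullback.diagonal (str k C)).isClosedEmbedding.isClosed_range.isOpen_compl⟩) ⟨hxV, hxr⟩
    have hone : (1 : Γ(sq k C, U.1)) ∈ (pullback.diagonal (str k C)).ker.ideal U := by
      rw [Scheme.Hom.ker_apply, RingHom.mem_ker]
      have he : pullback.diagonal (str k C) ⁻¹ᵁ U.1 = ⊥ := by
        ext c
        simp only [Opens.coe_bot, Set.mem_empty_iff_false, iff_false]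
        exact fun hc => (hUV hc).2 ⟨c, rfl⟩
      haveI : Subsingleton Γ(C, pullback.diagonal (str k C) ⁻¹ᵁ U.1) := by
        rw [he]
        exact CommRingCat.subsingleton_of_isTerminal C.sheaf.isTerminalOfEmpty
      exact Subsingleton.elim _ _
    obtain ⟨t, ht⟩ := Groth.OmegaSheaf.exists_idealSect (pullback.diagonal (str k C)).ker U hone
    obtain ⟨r, hr⟩ := hgen.exists_coeff (hUV.trans inf_le_left) t
    rw [res_res] at hr
    rw [hr, Groth.OmegaSheaf.idealSect_smul, idealSect_res', hf'] at ht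
    have hu : IsUnit (resX (sq k C) ((hUV.trans inf_le_left).trans hV) f) :=
      IsUnit.of_mul_eq_one_right _ ht
    exact hxB (((Scheme.basicOpen_res (sq k C) f
      (homOfLE ((hUV.trans inf_le_left).trans hV)).op).le.trans inf_le_right)
      ((Scheme.basicOpen_of_isUnit _ hu).ge hxU))
  let Z : Set ↥Sq := π '' ((V ⊔ B : (sq k C).Opens) : Set ↥(sq k C))ᶜ
  have hZ : IsClosed Z := π.isClosedMap _ (V ⊔ B).2.isClosed_compl
  let W : Sq.Opens := W₀ ⊓ ⟨Zᶜ, hZ.isOpen_compl⟩
  have hyW : y ∈ W := ⟨hyW₀, fun ⟨z, hz, hzy⟩ => hz (hfib z hzy)⟩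
  obtain ⟨e, he⟩ := exists_antiSect π τ hτ W₀ hf
  refine ⟨W, res _ inf_le_left e, res _ (π.preimage_mono inf_le_left) f', hyW, ?_, ?_⟩
  · refine Gen.of_cover (fun b : Bool => π ⁻¹ᵁ W ⊓ cond b V B) (fun b => inf_le_left)
      (fun z hz => ?_) fun b => ?_
    · by_contra h
      refine hz.2 ⟨z, fun hzVB => h ?_, rfl⟩
      rcases hzVB with hzV | hzB
      · exact Opens.mem_iSup.2 ⟨true, hz, hzV⟩
      · exact Opens.mem_iSup.2 ⟨false, hz, hzB⟩
    · rw [res_res]
      cases b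
      · have := hBgen.res (inf_le_right : π ⁻¹ᵁ W ⊓ B ≤ B)
        rwa [res_res] at this
      · have := hgen.res (inf_le_right : π ⁻¹ᵁ W ⊓ V ≤ V)
        rwa [res_res] at this
  · rw [idealSect_res', hf', antiSect_res, he]

end Quot

end Groth.HypSq
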