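import Groth.Agent.HypSq.SymBasic
import Groth.Agent.HypSq.Restrict
import Groth.Agent.Curves1.RR.EtaleGenusZero

/-!
# Cohomology on the symmetric square of a curve

`H^n(C × C, π^* M) = H^n(S, M) ⊕ H^n(S, E ⊗ M)` with `π^* E` the ideal of the diagonal.
-/

set_option autoImplicit false
set_option linter.style.haveILetI false
set_option linter.unusedSectionVars false

universe u

open CategoryTheory CategoryTheory.Limits AlgebraicGeometry TopologicalSpace Opposite

namespace Groth.HypSq

open Groth.PicAux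

section SplitCoh

variable (k : Type u) [Field k] {X : Scheme.{u}} [X.Over (Spec (CommRingCat.of k))]
  [IsProper (X ↘ Spec (CommRingCat.of k))] {T : ShortComplex X.Modules} (s : T.Splitting)

include s in
/-- Cohomology of a split sequence. -/
theorem finrank_split (h₁ : Coh.IsCoh T.X₁) (h₃ : Coh.IsCoh T.X₃) (n : ℕ) :
    Module.finrank k (Coh.HH X T.X₂ n) =
      Module.finrank k (Coh.HH X T.X₁ n) + Module.finrank k (Coh.HH X T.X₃ n) := by
  haveI := (Inter.finCoh k h₁).finite n
  haveI := (Inter.finCoh k h₃).finite n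
  have hS := s.shortExact
  let f := CohC3.hmap k T.f n
  let g := CohC3.hmap k T.g n
  have hf : Function.Injective f := fun a b h => by
    have := congrArg (CohC3.hmap k s.r n) h
    simp only [f] at this
    rwa [CohC3.hmap_comp, CohC3.hmap_comp, s.f_r, CohC3.hmap_id, CohC3.hmap_id] at this
  have hg : LinearMap.range g = ⊤ := LinearMap.range_eq_top.2 fun x =>
    ⟨CohC3.hmap k s.s n x, by
      simp only [g]
      rw [CohC3.hmap_comp, s.s_g, CohC3.hmap_id]⟩
  have hk : LinearMap.ker g = LinearMap.range f := le_antisymm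
    (fun x hx => CohC3.exists_of_hmap_g_eq_zero (A := k) hS x hx)
    (by rintro _ ⟨x, rfl⟩; exact hmap_g_f k hS x)
  haveI : FiniteDimensional k (LinearMap.ker g) := hk ▸ inferInstance
  haveI : FiniteDimensional k (LinearMap.range g) := hg ▸ inferInstance
  haveI : Module.Finite k (Coh.HH X T.X₂ n ⧸ LinearMap.ker g) :=
    Module.Finite.equiv g.quotKerEquivRange.symm
  haveI : FiniteDimensional k (Coh.HH X T.X₂ n) :=
    Module.Finite.of_submodule_quotient (LinearMap.ker g)
  have e := g.finrank_range_add_finrank_ker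
  rw [hg, hk, finrank_top, LinearMap.finrank_range_of_inj hf] at e
  omega

include k s in
theorem subsingleton_split {n : ℕ} (h : Subsingleton (Coh.HH X T.X₂ n)) :
    Subsingleton (Coh.HH X T.X₁ n) ∧ Subsingleton (Coh.HH X T.X₃ n) := by
  refine ⟨⟨fun a b => ?_⟩, ⟨fun a b => ?_⟩⟩
  · have := congrArg (CohC3.hmap k s.r n)
      (Subsingleton.elim (CohC3.hmap k T.f n a) (CohC3.hmap k T.f n b))
    rwa [CohC3.hmap_comp, CohC3.hmap_comp, s.f_r, CohC3.hmap_id, CohC3.hmap_id] at this
  · have := congrArg (CohC3.hmap k T.g n)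
      (Subsingleton.elim (CohC3.hmap k s.s n a) (CohC3.hmap k s.s n b))
    rwa [CohC3.hmap_comp, CohC3.hmap_comp, s.s_g, CohC3.hmap_id, CohC3.hmap_id] at this

end SplitCoh

variable {k : Type u} [Field k] [IsAlgClosed k] {C : Scheme.{u}} [C.Over (Spec (CommRingCat.of k))]
  [IsProper (C ↘ Spec (CommRingCat.of k))] [Smooth (C ↘ Spec (CommRingCat.of k))]
  [ConnectedSpace ↥C] (hdim : topologicalKrullDim ↥C = 1) (h2 : (2 : k) ≠ 0)
  {ρ : ULift.{u} (Equiv.Perm (Fin 2)) →* Aut (sq k C)}
  (hρ : (ρ (ULift.up (Equiv.swap 0 1))).hom = sqSwap k C)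
  {Sq : Scheme.{u}} {π : sq k C ⟶ Sq} (hπ : SGA1.IsQuot ρ π) [Sq.Over (Spec (CommRingCat.of k))]
  (hq : π ≫ (Sq ↘ Spec (CommRingCat.of k)) = pullback.fst (str k C) (str k C) ≫ str k C)

include hdim h2 hρ hπ hq

/-- The module `E` of anti-invariant sections. -/
theorem exists_eigen :
    ∃ E : Sq.Modules, PicF.IsInvertible E ∧
      Nonempty ((Scheme.Modules.pullback π).obj E ≅
        ClSub.idealMod (pullback.diagonal (str k C)).ker) ∧
      ∀ M : Sq.Modules, PicF.IsInvertible M →
        (∀ n, Module.finrank k (Coh.HH (sq k C) ((Scheme.Modules.pullback π).obj M) n) =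
          Module.finrank k (Coh.HH Sq M n) + Module.finrank k (Coh.HH Sq (CohB1.tensorMod E M) n)) ∧
        (∀ n, Subsingleton (Coh.HH (sq k C) ((Scheme.Modules.pullback π).obj M) n) →
          Subsingleton (Coh.HH Sq M n) ∧ Subsingleton (Coh.HH Sq (CohB1.tensorMod E M) n)) ∧
        Curv2.euler k (sq k C) ((Scheme.Modules.pullback π).obj M) =
          Curv2.euler k Sq M + Curv2.euler k Sq (CohB1.tensorMod E M) := by
  haveI := hπ.affine
  haveI := isProper_quot hπ _ hq
  haveI := isClosedImmersion_graph (k := k) (C := C) (𝟙 C) (Category.id_comp _)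
  haveI : IsClosedImmersion (pullback.diagonal (str k C)) :=
    diagonal_eq_graph (k := k) (C := C) ▸ this
  have h2' := isUnit_two hπ _ hq h2
  obtain ⟨hE, hEp⟩ := anti_invertible_of_gen π (sqSwap k C) (swap_comp hρ hπ)
    (pullback.diagonal (str k C)) graph_id_sqSwap h2' (exists_app_of_swap hρ hπ) hπ.injective
    (fun y => exists_anti_gen (q := Sq ↘ Spec (CommRingCat.of k)) hρ hπ hdim hq y)
  refine ⟨_, hE, hEp, fun M hM => ?_⟩
  obtain ⟨T, ⟨s⟩, ⟨a⟩, ⟨b⟩, ⟨c⟩⟩ := exists_split_pullback π (sqSwap k C) (swap_comp hρ hπ)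
    sqSwap_sqSwap hπ.injective (exists_app_of_swap hρ hπ) h2' hM
  haveI := Inter.isNoetherian k (X := Sq)
  have hA := Inter.isCoh_of_isInvertible (PicAux.isInvertible_tensorMod hE hM)
  have h₁ := QCohMod.isCoh_of_iso a.symm (Inter.isCoh_of_isInvertible hM)
  have h₃ := QCohMod.isCoh_of_iso c.symm hA
  haveI : CompactSpace ↥(sq k C) :=
    QuasiCompact.compactSpace_of_compactSpace (sq k C ↘ Spec (CommRingCat.of k))
  haveI := Groth.HilbStab.BC.isSeparated_of_proper k (sq k C)
  haveI := Groth.HilbStab.BC.isSeparated_of_proper k Sq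
  haveI : ((Scheme.Modules.pullback π).obj M).IsQuasicoherent :=
    (Inter.isCoh_of_isInvertible (PicAux.isInvertible_pullback π hM)).1
  have hp : ∀ n, Nonempty (Coh.HH Sq ((Scheme.Modules.pushforward π).obj
      ((Scheme.Modules.pullback π).obj M)) n ≃ₗ[k]
      Coh.HH (sq k C) ((Scheme.Modules.pullback π).obj M) n) := fun n => by
    obtain ⟨e⟩ := CohFin.nonempty_linearEquiv_push π (Sq ↘ Spec (CommRingCat.of k)) n
      ((Scheme.Modules.pullback π).obj M)
    rw [hq] at e
    exact ⟨e⟩
  refine ⟨fun n => ?_, fun n hn => ?_, ?_⟩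
  · obtain ⟨p⟩ := hp n
    rw [← p.finrank_eq, ← EulerDeg.finrank_congr b n, finrank_split k s h₁ h₃ n,
      EulerDeg.finrank_congr a n, EulerDeg.finrank_congr c n]
  · obtain ⟨p⟩ := hp n
    have := @Equiv.subsingleton _ _ p.toEquiv hn
    have := (EulerDeg.hEquiv k b n).toEquiv.subsingleton
    obtain ⟨h1, h3⟩ := subsingleton_split k s this
    exact ⟨(EulerDeg.hEquiv k a.symm n).toEquiv.subsingleton,
      (EulerDeg.hEquiv k c.symm n).toEquiv.subsingleton⟩
  · rw [← Curves1.RR.euler_push_affine k π hq _ inferInstance, ← EulerDeg.euler_congr k b,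
      Inter.euler_add k s.shortExact h₁ h₃, EulerDeg.euler_congr k a, EulerDeg.euler_congr k c]

end Groth.HypSq
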