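import Groth.Agent.HypSq.SymCoh
import Groth.Agent.HypSq.DiagClass
import Groth.Agent.HypSq.Formula
import Groth.Agent.HypSq.SumClass

/-!
# The Euler characteristic on the symmetric square of a curve

`4 χ(S, M) = 2 χ(C × C, π^*M) + deg(Δ^* π^* M) - 2 (g - 1)`.
-/

set_option autoImplicit false
set_option linter.style.haveILetI false
set_option linter.unusedSectionVars false

universe u

open CategoryTheory CategoryTheory.Limits AlgebraicGeometry TopologicalSpace Opposite

namespace Groth.HypSq

open Groth.PicAux Groth.Inter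

variable {k : Type u} [Field k] [IsAlgClosed k] {C : Scheme.{u}} [C.Over (Spec (CommRingCat.of k))]
  [IsProper (C ↘ Spec (CommRingCat.of k))] [Smooth (C ↘ Spec (CommRingCat.of k))]
  [ConnectedSpace ↥C] (hdim : topologicalKrullDim ↥C = 1) (h2 : (2 : k) ≠ 0)
  {ρ : ULift.{u} (Equiv.Perm (Fin 2)) →* Aut (sq k C)}
  (hρ : (ρ (ULift.up (Equiv.swap 0 1))).hom = sqSwap k C)
  {Sq : Scheme.{u}} {π : sq k C ⟶ Sq} (hπ : SGA1.IsQuot ρ π) [Sq.Over (Spec (CommRingCat.of k))]
  (hq : π ≫ (Sq ↘ Spec (CommRingCat.of k)) = pullback.fst (str k C) (str k C) ≫ str k C)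

include hdim in
/-- The degree of the conormal module of the diagonal. -/
theorem deg_pullback_diag_ideal :
    Curv2.deg k C ((Scheme.Modules.pullback (pullback.diagonal (str k C))).obj
      (ClSub.idealMod (pullback.diagonal (str k C)).ker)) 1 = 2 * (Curv2.genus k C : ℤ) - 2 := by
  haveI := isIntegral_curve k C
  obtain ⟨-, -, nd⟩ := CurveBridge.omega_numerics (k := k) (isRegCurve k hdim)
  change Curv2.deg k C (Omega.sheaf (C ↘ Spec (CommRingCat.of k))) 1 = _
  rw [nd]

include hdim h2 hρ hπ hq in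
/-- The Euler characteristic on the symmetric square. -/
theorem four_mul_euler {M : Sq.Modules} (hM : PicF.IsInvertible M) :
    4 * Curv2.euler k Sq M = 2 * Curv2.euler k (sq k C) ((Scheme.Modules.pullback π).obj M) +
      Curv2.deg k C ((Scheme.Modules.pullback (pullback.diagonal (str k C))).obj
        ((Scheme.Modules.pullback π).obj M)) 1 - 2 * ((Curv2.genus k C : ℤ) - 1) := by
  obtain ⟨E, hE, ⟨eI⟩, hsplit⟩ := exists_eigen hdim h2 hρ hπ hq
  haveI := isProper_quot hπ _ hq
  haveI := Inter.isNoetherian k (X := Sq)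
  haveI := isClosedImmersion_graph (k := k) (C := C) (𝟙 C) (Category.id_comp _)
  haveI : IsClosedImmersion (pullback.diagonal (str k C)) :=
    diagonal_eq_graph (k := k) (C := C) ▸ this
  have hD : BlowUp.IsEffCartierIdeal (pullback.diagonal (str k C)).ker :=
    isEffCartierIdeal_of_section hdim _ (pullback.diagonal_fst _)
  have hI := isInvertible_idealMod hD
  have hio : pullback.diagonal (str k C) ≫ (sq k C ↘ Spec (CommRingCat.of k)) = str k C :=
    graph_over (k := k) (C := C) (𝟙 C) (Category.id_comp _)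
  have h1 := PicAux.isInvertible_tensorMod hE hM
  have h2' := PicAux.isInvertible_tensorMod hE h1
  have hd : delta k [E, E, E] M = 0 := delta_eq_zero k _ (by simp [hE]) M
    (Inter.isCoh_of_isInvertible hM) (lt_natCast_succ_iff.2
      ((Topology.IsInducing.subtypeVal.topologicalKrullDim_le).trans (dim_quot_le hπ hdim)))
  simp only [delta_cons, delta_nil] at hd
  obtain ⟨-, -, g0⟩ := hsplit M hM
  obtain ⟨-, -, g1⟩ := hsplit _ h1
  obtain ⟨-, -, g2⟩ := hsplit _ h2'
  have hpull : ∀ {N : Sq.Modules}, Nonempty ((Scheme.Modules.pullback π).obj (CohB1.tensorMod E N) ≅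
      CohB1.tensorMod (ClSub.idealMod (pullback.diagonal (str k C)).ker)
        ((Scheme.Modules.pullback π).obj N)) := fun {N} => by
    obtain ⟨a, -⟩ := exists_pullback_tensorMod π E N
    exact ⟨a ≪≫ PicGrp.tensorModIso eI (Iso.refl _)⟩
  have hP := PicAux.isInvertible_pullback π hM
  have hP1 := PicAux.isInvertible_tensorMod hI hP
  rw [EulerDeg.euler_congr k (hpull (N := M)).some] at g1
  rw [EulerDeg.euler_congr k ((hpull (N := CohB1.tensorMod E M)).some ≪≫
    PicGrp.tensorModIso (Iso.refl _) (hpull (N := M)).some)] at g2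
  have r0 := euler_restrict hdim _ hio hD hP
  have r1 := euler_restrict hdim _ hio hD hP1
  have hdP := PicAux.isInvertible_pullback (pullback.diagonal (str k C)) hP
  have hdI := PicAux.isInvertible_pullback (pullback.diagonal (str k C)) hI
  obtain ⟨b, -⟩ := exists_pullback_tensorMod (pullback.diagonal (str k C))
    (ClSub.idealMod (pullback.diagonal (str k C)).ker) ((Scheme.Modules.pullback π).obj M)
  rw [euler_line hdim hdP] at r0
  rw [EulerDeg.euler_congr k b, euler_line hdim (PicAux.isInvertible_tensorMod hdI hdP),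
    EulerDeg.deg_tensor_invertible k hdim.le hdI hdP, deg_pullback_diag_ideal hdim] at r1
  linarith

section Graph

variable (κ : C ⟶ CohB1.ProjSpace 1 k)
  (hκ : κ ≫ CohB1.ProjSpace.toSpec 1 k = (C ↘ Spec (CommRingCat.of k)))
  [IsFinite κ] [Flat κ] (hκ2 : ∀ y : ↥(CohB1.ProjSpace 1 k), κ.finrank y = 2)
  (σ : C ⟶ C) (hσp : σ ≫ str k C = str k C) (hσ : σ ≫ κ = κ) (hσ1 : σ ≠ 𝟙 C)
  (hg : 1 ≤ Curv2.genus k C) {N : (sq k C).Modules} (hN : PicF.IsInvertible N)
  (hNinv : ClSub.IsInverseOf N (ClSub.idealMod (graph σ hσp).ker))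

include hdim hκ hκ2 hσ hσ1 hg hN hNinv in
/-- The degree of `N` on the diagonal. -/
theorem deg_diag_graph :
    Curv2.deg k C ((Scheme.Modules.pullback (pullback.diagonal (str k C))).obj N) 1 =
      2 * (Curv2.genus k C : ℤ) + 2 := by
  haveI := isClosedImmersion_graph (k := k) (C := C) (𝟙 C) (Category.id_comp _)
  haveI : IsClosedImmersion (pullback.diagonal (str k C)) :=
    diagonal_eq_graph (k := k) (C := C) ▸ this
  have hD : BlowUp.IsEffCartierIdeal (pullback.diagonal (str k C)).ker :=
    isEffCartierIdeal_of_section hdim _ (pullback.diagonal_fst _)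
  obtain ⟨ND, hND, hNDinv⟩ := exists_isInverseOf (isInvertible_idealMod hD)
  rw [← pair_inverse_ker hdim (pullback.diagonal (str k C)) (graph_over (k := k) (C := C) (𝟙 C) (Category.id_comp _)) hD
    (isInverseOf_symm' hNDinv) hN, pair_comm k,
    pair_graph_diag hdim κ hκ hκ2 σ hσp hσ hσ1 hg hN hNinv hND (isInverseOf_symm' hNDinv)]

include hdim in
theorem deg_diag_extPow {M M' : C.Modules} (hM : PicF.IsInvertible M) (hM' : PicF.IsInvertible M')
    (hN : PicF.IsInvertible N) (r : ℕ) :
    Curv2.deg k C ((Scheme.Modules.pullback (pullback.diagonal (str k C))).obj (extPow M M' N r)) 1 =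
      Curv2.deg k C M 1 + Curv2.deg k C M' 1 +
        r * Curv2.deg k C ((Scheme.Modules.pullback (pullback.diagonal (str k C))).obj N) 1 := by
  obtain ⟨e1⟩ := ZetaAn.ProdCurves.pullback_id_iso (pullback.diagonal (str k C)) _
    (pullback.diagonal_fst _) M
  obtain ⟨e2⟩ := ZetaAn.ProdCurves.pullback_id_iso (pullback.diagonal (str k C)) _
    (pullback.diagonal_snd _) M'
  obtain ⟨e3⟩ := pullback_tensorPow (pullback.diagonal (str k C)) N r
  obtain ⟨a, -⟩ := exists_pullback_tensorMod (pullback.diagonal (str k C))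
    ((Scheme.Modules.pullback (pullback.fst (str k C) (str k C))).obj M)
    ((Scheme.Modules.pullback (pullback.snd (str k C) (str k C))).obj M')
  obtain ⟨b, -⟩ := exists_pullback_tensorMod (pullback.diagonal (str k C))
    (CohB1.tensorMod ((Scheme.Modules.pullback (pullback.fst (str k C) (str k C))).obj M)
      ((Scheme.Modules.pullback (pullback.snd (str k C) (str k C))).obj M'))
    (CohB1.tensorPow N r)
  have hN' := PicAux.isInvertible_pullback (pullback.diagonal (str k C)) hN
  rw [EulerDeg.deg_congr k (b ≪≫ PicGrp.tensorModIso (a ≪≫ PicGrp.tensorModIso e1 e2) e3),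
    EulerDeg.deg_tensor_invertible k hdim.le (PicAux.isInvertible_tensorMod hM hM')
      (PicAux.isInvertible_tensorPow hN' r),
    EulerDeg.deg_tensor_invertible k hdim.le hM hM',
    VarietyBC.CurveDeg.deg_tensorPow k hdim.le hN']

include hdim h2 hρ hπ hq hκ hκ2 hσ hσ1 hg hN hNinv in
/-- `χ` of the class `a Θ + r ∇` on the symmetric square. -/
theorem two_mul_euler {A : C.Modules} (hA : PicF.IsInvertible A) {a : ℤ}
    (ha : Curv2.deg k C A 1 = a) {M : Sq.Modules} (hM : PicF.IsInvertible M) (r : ℕ)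
    (hMpull : Nonempty ((Scheme.Modules.pullback π).obj M ≅ extPow A A N r)) :
    2 * Curv2.euler k Sq M =
      (a - ((Curv2.genus k C : ℤ) - 1)) * (a - ((Curv2.genus k C : ℤ) - 1) + 1) +
        2 * (r : ℤ) * (a + 1) - ((Curv2.genus k C : ℤ) - 1) * r * (r + 1) := by
  obtain ⟨e⟩ := hMpull
  have h := four_mul_euler hdim h2 hρ hπ hq hM
  rw [EulerDeg.euler_congr k e, euler_extPow hdim σ hσp κ hκ hκ2 hσ hg hA hA hN hNinv r,
    EulerDeg.deg_congr k ((Scheme.Modules.pullback (pullback.diagonal (str k C))).mapIso e),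
    deg_diag_extPow hdim hA hA hN r,
    deg_diag_graph hdim κ hκ hκ2 σ hσp hσ hσ1 hg hN hNinv, ha] at h
  linarith

end Graph

end Groth.HypSq
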