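import Groth.Agent.HypSq.SymEuler
import Groth.Agent.Inter.Growth3

/-!
# Intersection numbers on the symmetric square of a curve
-/

set_option autoImplicit false
set_option linter.style.haveILetI false
set_option linter.unusedSectionVars false

universe u

open CategoryTheory CategoryTheory.Limits AlgebraicGeometry TopologicalSpace Opposite

namespace Groth.HypSq

open Groth.PicAux Groth.Inter

variable {k : Type u} [Field k] [IsAlgClosed k] {C : Scheme.{u}} [C.Over (Spec (CommRingCat.of k))]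
  [IsProper (C ↘ Spec (CommRingCat.of k))] [Smooth (C ↘ Spec (CommRingCat.of k))]
  [ConnectedSpace ↥C] (hdim : topologicalKrullDim ↥C = 1) (h2 : (2 : k) ≠ 0)
  {ρ : ULift.{u} (Equiv.Perm (Fin 2)) →* Aut (sq k C)}
  (hρ : (ρ (ULift.up (Equiv.swap 0 1))).hom = sqSwap k C)
  {Sq : Scheme.{u}} {π : sq k C ⟶ Sq} (hπ : SGA1.IsQuot ρ π) [Sq.Over (Spec (CommRingCat.of k))]
  (hq : π ≫ (Sq ↘ Spec (CommRingCat.of k)) = pullback.fst (str k C) (str k C) ≫ str k C)

include hdim h2 hρ hπ hq in
/-- Pullback to `C × C` doubles intersection numbers. -/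
theorem intNum_quot {A B : Sq.Modules} (hA : PicF.IsInvertible A) (hB : PicF.IsInvertible B)
    {P Q : (sq k C).Modules} (eA : (Scheme.Modules.pullback π).obj A ≅ P)
    (eB : (Scheme.Modules.pullback π).obj B ≅ Q) :
    2 * FGA.intNum k Sq 2 ![A, B] (Coh.structureModule Sq) = pair k P Q := by
  haveI := isProper_quot hπ _ hq
  haveI := isClosedImmersion_graph (k := k) (C := C) (𝟙 C) (Category.id_comp _)
  rw [intNum_eq_pair k (dim_quot_le hπ hdim), pair_eq_euler, pair_eq_euler]
  have hP := PicAux.isInvertible_pullback π hA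
  have hQ := PicAux.isInvertible_pullback π hB
  let Δ := pullback.diagonal (str k C)
  obtain ⟨eO⟩ : Nonempty ((Scheme.Modules.pullback π).obj (Coh.structureModule Sq) ≅
      Coh.structureModule (sq k C)) := PicAux.pullback_structure_iso π
  obtain ⟨eT, -⟩ := exists_pullback_tensorMod π A B
  obtain ⟨eD, -⟩ := exists_pullback_tensorMod Δ ((Scheme.Modules.pullback π).obj A)
    ((Scheme.Modules.pullback π).obj B)
  have h0 := four_mul_euler hdim h2 hρ hπ hq (EulerDeg.isInvertible_structureModule Sq)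
  have hA' := four_mul_euler hdim h2 hρ hπ hq hA
  have hB' := four_mul_euler hdim h2 hρ hπ hq hB
  have hT := four_mul_euler hdim h2 hρ hπ hq (PicAux.isInvertible_tensorMod hA hB)
  rw [EulerDeg.euler_congr k eO, EulerDeg.deg_congr k ((Scheme.Modules.pullback Δ).mapIso eO ≪≫
      (PicAux.pullback_structure_iso Δ).some),
    ZetaAn.ProdCurves.deg_of_iso_structure k ⟨Iso.refl _⟩] at h0
  rw [EulerDeg.euler_congr k eA] at hA'
  rw [EulerDeg.euler_congr k eB] at hB'
  rw [EulerDeg.euler_congr k (eT ≪≫ PicGrp.tensorModIso eA eB),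
    EulerDeg.deg_congr k ((Scheme.Modules.pullback Δ).mapIso eT ≪≫ eD),
    EulerDeg.deg_tensor_invertible k hdim.le (PicAux.isInvertible_pullback Δ hP)
      (PicAux.isInvertible_pullback Δ hQ)] at hT
  linarith

include hdim in
theorem euler_structure_sq :
    Curv2.euler k (sq k C) (Coh.structureModule (sq k C)) =
      (1 - (Curv2.genus k C : ℤ)) * (1 - (Curv2.genus k C : ℤ)) := by
  have h := euler_ext (k := k) hdim (EulerDeg.isInvertible_structureModule C)
    (EulerDeg.isInvertible_structureModule C)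
  obtain ⟨p1⟩ := PicAux.pullback_structure_iso (pullback.fst (str k C) (str k C))
  obtain ⟨p2⟩ := PicAux.pullback_structure_iso (pullback.snd (str k C) (str k C))
  rw [EulerDeg.euler_congr k (PicGrp.tensorModIso p1 p2 ≪≫ (Inter.tensor_one _).some),
    euler_structure hdim] at h
  exact h

section Table

variable (κ : C ⟶ CohB1.ProjSpace 1 k)
  (hκ : κ ≫ CohB1.ProjSpace.toSpec 1 k = (C ↘ Spec (CommRingCat.of k)))
  [IsFinite κ] [Flat κ] (hκ2 : ∀ y : ↥(CohB1.ProjSpace 1 k), κ.finrank y = 2)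
  (σ : C ⟶ C) (hσp : σ ≫ str k C = str k C) (hσ : σ ≫ κ = κ) (hσ1 : σ ≠ 𝟙 C)
  (hg : 1 ≤ Curv2.genus k C) {N : (sq k C).Modules} (hN : PicF.IsInvertible N)
  (hNinv : ClSub.IsInverseOf N (ClSub.idealMod (graph σ hσp).ker))
  {A : C.Modules} (hA : PicF.IsInvertible A) (hAd : Curv2.deg k C A 1 = 1)

/-- `p₁^*A ⊗ p₂^*A`. -/
noncomputable abbrev boxA (A : C.Modules) : (sq k C).Modules :=
  CohB1.tensorMod ((Scheme.Modules.pullback (pullback.fst (str k C) (str k C))).obj A)
    ((Scheme.Modules.pullback (pullback.snd (str k C) (str k C))).obj A)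

include hdim hκ hκ2 hσ hg hN hNinv hA hAd in
theorem pair_boxA_self : pair k (boxA (k := k) A) (boxA (k := k) A) = 2 := by
  have hAA := PicAux.isInvertible_tensorMod hA hA
  let p1 := pullback.fst (str k C) (str k C)
  let p2 := pullback.snd (str k C) (str k C)
  obtain ⟨m⟩ := tensor_middle ((Scheme.Modules.pullback p1).obj A)
    ((Scheme.Modules.pullback p2).obj A) ((Scheme.Modules.pullback p1).obj A)
    ((Scheme.Modules.pullback p2).obj A)
  obtain ⟨a1, -⟩ := exists_pullback_tensorMod p1 A A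
  obtain ⟨a2, -⟩ := exists_pullback_tensorMod p2 A A
  rw [pair_eq_euler, euler_structure_sq hdim, euler_ext hdim hA hA,
    EulerDeg.euler_congr k (m ≪≫ PicGrp.tensorModIso a1.symm a2.symm), euler_ext hdim hAA hAA,
    euler_line hdim hA, euler_line hdim hAA, EulerDeg.deg_tensor_invertible k hdim.le hA hA, hAd]
  ring

include hdim hκ hκ2 hσ hg hN hNinv hA hAd in
theorem pair_boxA_graph : pair k (boxA (k := k) A) N = 2 := by
  haveI := isClosedImmersion_graph σ hσp
  have hF : PicF.IsInvertible (boxA (k := k) A) :=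
    PicAux.isInvertible_tensorMod (PicAux.isInvertible_pullback _ hA) (PicAux.isInvertible_pullback _ hA)
  rw [pair_comm k, pair_inverse_ker hdim _ (graph_over σ hσp)
      (isEffCartierIdeal_of_section hdim _ (graph_fst σ hσp)) hNinv hF,
    EulerDeg.deg_congr k ((Scheme.Modules.pullback (graph σ hσp)).mapIso
      ((Inter.tensor_one (boxA (k := k) A)).some.symm ≪≫ (Inter.tensor_comm _ _).some :
        boxA (k := k) A ≅ extPow A A N 0)),
    deg_pullback_graph_extPow hdim σ hσp κ hκ hκ2 hσ hg hA hA hN hNinv, hAd]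
  push_cast
  ring

include hdim hN hA hAd in
theorem pair_boxA_diag {ND : (sq k C).Modules}
    (hNDinv : ClSub.IsInverseOf ND (ClSub.idealMod (pullback.diagonal (str k C)).ker)) :
    pair k (boxA (k := k) A) ND = 2 := by
  haveI := isClosedImmersion_graph (k := k) (C := C) (𝟙 C) (Category.id_comp _)
  haveI : IsClosedImmersion (pullback.diagonal (str k C)) :=
    diagonal_eq_graph (k := k) (C := C) ▸ this
  have hD : BlowUp.IsEffCartierIdeal (pullback.diagonal (str k C)).ker :=
    isEffCartierIdeal_of_section hdim _ (pullback.diagonal_fst _)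
  have hF : PicF.IsInvertible (boxA (k := k) A) :=
    PicAux.isInvertible_tensorMod (PicAux.isInvertible_pullback _ hA) (PicAux.isInvertible_pullback _ hA)
  rw [pair_comm k, pair_inverse_ker hdim (pullback.diagonal (str k C))
      (graph_over (k := k) (C := C) (𝟙 C) (Category.id_comp _)) hD hNDinv hF,
    EulerDeg.deg_congr k ((Scheme.Modules.pullback (pullback.diagonal (str k C))).mapIso
      ((Inter.tensor_one (boxA (k := k) A)).some.symm ≪≫ (Inter.tensor_comm _ _).some :
        boxA (k := k) A ≅ extPow A A N 0)),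
    deg_diag_extPow hdim hA hA hN, hAd]
  push_cast
  ring

include hdim in
theorem pair_diag_self {ND : (sq k C).Modules} (hND : PicF.IsInvertible ND)
    (hNDinv : ClSub.IsInverseOf ND (ClSub.idealMod (pullback.diagonal (str k C)).ker)) :
    pair k ND ND = 2 - 2 * (Curv2.genus k C : ℤ) := by
  haveI := isClosedImmersion_graph (k := k) (C := C) (𝟙 C) (Category.id_comp _)
  haveI : IsClosedImmersion (pullback.diagonal (str k C)) :=
    diagonal_eq_graph (k := k) (C := C) ▸ this
  rw [pair_inverse_ker hdim (pullback.diagonal (str k C))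
      (graph_over (k := k) (C := C) (𝟙 C) (Category.id_comp _))
      (isEffCartierIdeal_of_section hdim _ (pullback.diagonal_fst _)) hNDinv hND,
    deg_pullback_diag_inverse hdim hND hNDinv]

include hdim h2 hρ hπ hq hκ hκ2 hσ hσ1 hg hN hNinv hA hAd in
/-- The intersection table of `Θ`, `Δ`, `∇`. -/
theorem table_quot {ND : (sq k C).Modules} (hND : PicF.IsInvertible ND)
    (hNDinv : ClSub.IsInverseOf ND (ClSub.idealMod (pullback.diagonal (str k C)).ker))
    {MΘ MΔ MV : Sq.Modules} (hMΘ : PicF.IsInvertible MΘ) (hMΔ : PicF.IsInvertible MΔ)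
    (hMV : PicF.IsInvertible MV)
    (eΘ : (Scheme.Modules.pullback π).obj MΘ ≅ boxA (k := k) A)
    (eΔ : (Scheme.Modules.pullback π).obj MΔ ≅ CohB1.tensorMod ND ND)
    (eV : (Scheme.Modules.pullback π).obj MV ≅ N) :
    FGA.intNum k Sq 2 ![MΘ, MΘ] (Coh.structureModule Sq) = 1 ∧
      FGA.intNum k Sq 2 ![MΘ, MΔ] (Coh.structureModule Sq) = 2 ∧
      FGA.intNum k Sq 2 ![MΘ, MV] (Coh.structureModule Sq) = 1 ∧
      FGA.intNum k Sq 2 ![MΔ, MΔ] (Coh.structureModule Sq) = 4 - 4 * (Curv2.genus k C : ℤ) ∧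
      FGA.intNum k Sq 2 ![MV, MV] (Coh.structureModule Sq) = 1 - (Curv2.genus k C : ℤ) ∧
      FGA.intNum k Sq 2 ![MΔ, MV] (Coh.structureModule Sq) = 2 * (Curv2.genus k C : ℤ) + 2 := by
  have hd := dim_sq_le (k := k) (C := C) hdim
  have hDD := PicAux.isInvertible_tensorMod hND hND
  have hF : PicF.IsInvertible (boxA (k := k) A) :=
    PicAux.isInvertible_tensorMod (PicAux.isInvertible_pullback _ hA)
      (PicAux.isInvertible_pullback _ hA)
  have t1 := intNum_quot hdim h2 hρ hπ hq hMΘ hMΘ eΘ eΘ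
  have t2 := intNum_quot hdim h2 hρ hπ hq hMΘ hMΔ eΘ eΔ
  have t3 := intNum_quot hdim h2 hρ hπ hq hMΘ hMV eΘ eV
  have t4 := intNum_quot hdim h2 hρ hπ hq hMΔ hMΔ eΔ eΔ
  have t5 := intNum_quot hdim h2 hρ hπ hq hMV hMV eV eV
  have t6 := intNum_quot hdim h2 hρ hπ hq hMΔ hMV eΔ eV
  rw [pair_boxA_self hdim κ hκ hκ2 σ hσp hσ hg hN hNinv hA hAd] at t1
  rw [pair_comm k, pair_tensor k hd hND hND hF, pair_comm k ND,
    pair_boxA_diag hdim hN hA hAd hNDinv] at t2
  rw [pair_boxA_graph hdim κ hκ hκ2 σ hσp hσ hg hN hNinv hA hAd] at t3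
  rw [pair_tensor k hd hND hND hDD, pair_comm k ND, pair_tensor k hd hND hND hND,
    pair_diag_self hdim hND hNDinv] at t4
  rw [pair_graph_self hdim κ hκ hκ2 σ hσp hσ hg hN hNinv] at t5
  rw [pair_tensor k hd hND hND hN, pair_comm k ND,
    pair_graph_diag hdim κ hκ hκ2 σ hσp hσ hσ1 hg hN hNinv hND hNDinv] at t6
  refine ⟨?_, ?_, ?_, ?_, ?_, ?_⟩ <;> linarith

end Table

end Groth.HypSq
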