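import Groth.Agent.HypSq.Formula
import Groth.Agent.HypSq.Restrict

/-!
# Cohomology of `F_m ⊗ N^r`
-/

set_option autoImplicit false
set_option linter.style.haveILetI false
set_option linter.unusedSectionVars false

universe u

open CategoryTheory CategoryTheory.Limits AlgebraicGeometry TopologicalSpace Opposite

namespace Groth.HypSq

open Groth.PicAux Groth.Inter

variable {k : Type u} [Field k] [IsAlgClosed k] {C : Scheme.{u}} [C.Over (Spec (CommRingCat.of k))]
  [IsProper (C ↘ Spec (CommRingCat.of k))] [Smooth (C ↘ Spec (CommRingCat.of k))] [ConnectedSpace ↥C]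

/-- The class `F_m ⊗ N^r`. -/
noncomputable abbrev boxPow (κ : C ⟶ CohB1.ProjSpace 1 k) (m : ℕ) (N : (sq k C).Modules) (r : ℕ) :
    (sq k C).Modules :=
  CohB1.tensorMod (box κ m) (CohB1.tensorPow N r)

variable (hdim : topologicalKrullDim ↥C = 1) (κ : C ⟶ CohB1.ProjSpace 1 k)
  (hκ : κ ≫ CohB1.ProjSpace.toSpec 1 k = (C ↘ Spec (CommRingCat.of k)))
  [IsFinite κ] [Flat κ] (hκ2 : ∀ y : ↥(CohB1.ProjSpace 1 k), κ.finrank y = 2)

include hdim hκ hκ2 in
theorem subsingleton_box {m : ℕ} (hm : Curv2.genus k C ≤ m) {n : ℕ} (hn : 1 ≤ n) :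
    Subsingleton (Coh.HH (sq k C) (box κ m) n) := by
  haveI := isIntegral_curve k C
  have hL := isInvertible_lbPow κ m
  haveI := (Inter.isCoh_of_isInvertible hL).1
  have hz : ∀ p : ℕ, 1 ≤ p → Subsingleton (Coh.HH C (lbPow κ m) p) := fun p hp => by
    rcases Nat.lt_or_ge p 2 with h | h
    · obtain rfl : p = 1 := by omega
      exact subsingleton_h1_lbPow hdim κ hκ hκ2 hm
    · exact CurveBridge.subsingleton_HH k (isRegCurve k hdim) _ h
  obtain ⟨e⟩ := Groth.Agent.S2443.result k C C (lbPow κ m) (lbPow κ m)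
    (Groth.Abvar.Seesaw.isFlatOver_of_isInvertible _ hL) (fun p => inferInstance) n
  haveI : ∀ pq : Finset.HasAntidiagonal.antidiagonal n, Subsingleton
      (TensorProduct k (Coh.HH C (lbPow κ m) pq.1.1) (Coh.HH C (lbPow κ m) pq.1.2)) := fun pq => by
    have hpq := Finset.HasAntidiagonal.mem_antidiagonal.1 pq.2
    by_cases h : 1 ≤ pq.1.1
    · have := hz _ h
      infer_instance
    · have := hz pq.1.2 (by omega)
      infer_instance
  exact e.toEquiv.subsingleton

variable (σ : C ⟶ C) (hσp : σ ≫ str k C = str k C) (hσ : σ ≫ κ = κ) {N : (sq k C).Modules}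
  (hN : PicF.IsInvertible N) (hNinv : ClSub.IsInverseOf N (ClSub.idealMod (graph σ hσp).ker))

theorem boxPow_zero (m : ℕ) (N : (sq k C).Modules) :
    Nonempty (boxPow κ m N 0 ≅ box κ m) :=
  ⟨(tensor_comm _ _).some ≪≫ (tensor_one _).some⟩

theorem isInvertible_boxPow (hN : PicF.IsInvertible N) (m r : ℕ) :
    PicF.IsInvertible (boxPow κ m N r) :=
  PicAux.isInvertible_tensorMod (isInvertible_box κ m) (PicAux.isInvertible_tensorPow hN r)

include hdim hκ hκ2 hN hNinv in
theorem subsingleton_h2_boxPow {m : ℕ} (hm : Curv2.genus k C ≤ m) :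
    ∀ r : ℕ, Subsingleton (Coh.HH (sq k C) (boxPow κ m N r) 2)
  | 0 => by
    haveI := subsingleton_box hdim κ hκ hκ2 hm (n := 2) one_le_two
    exact (EulerDeg.hEquiv k (boxPow_zero κ m N).some 2).toEquiv.subsingleton
  | r + 1 => by
    haveI := isClosedImmersion_graph σ hσp
    haveI := subsingleton_h2_boxPow hm r
    haveI := isIntegral_curve k C
    exact subsingleton_of_restrict _ (graph_over σ hσp) (isInvertible_boxPow κ hN m (r + 1))
      (EulerDeg.hEquiv k (nonempty_ideal_tensor hdim σ hσp hN hNinv (isInvertible_box κ m) r).some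
        2).toEquiv.subsingleton
      (CurveBridge.subsingleton_HH k (isRegCurve k hdim) _ le_rfl)

include hdim hκ hκ2 hσ hN hNinv in
theorem deg_pullback_graph_boxPow (hg : 1 ≤ Curv2.genus k C) (m r : ℕ) :
    Curv2.deg k C ((Scheme.Modules.pullback (graph σ hσp)).obj (boxPow κ m N r)) 1 =
      4 * (m : ℤ) + r * (2 - 2 * (Curv2.genus k C : ℤ)) := by
  refine (deg_pullback_graph_extPow hdim σ hσp κ hκ hκ2 hσ hg (isInvertible_lbPow κ m)
    (isInvertible_lbPow κ m) hN hNinv r).trans ?_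
  rw [deg_lbPow hdim κ hκ hκ2 m]
  ring

include hdim hκ hκ2 hσ hN hNinv in
theorem subsingleton_h1_boxPow (hg : 1 ≤ Curv2.genus k C) {m : ℕ} (hm : Curv2.genus k C ≤ m) :
    ∀ r : ℕ, ((Curv2.genus k C : ℤ) - 1) * (r + 1) < 2 * m →
      Subsingleton (Coh.HH (sq k C) (boxPow κ m N r) 1)
  | 0, _ => by
    haveI := subsingleton_box hdim κ hκ hκ2 hm (n := 1) le_rfl
    exact (EulerDeg.hEquiv k (boxPow_zero κ m N).some 1).toEquiv.subsingleton
  | r + 1, h => by
    haveI := isClosedImmersion_graph σ hσp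
    haveI := isIntegral_curve k C
    have hγ : (0 : ℤ) ≤ (Curv2.genus k C : ℤ) - 1 := by omega
    haveI := subsingleton_h1_boxPow hg hm r (lt_of_le_of_lt
      (mul_le_mul_of_nonneg_left (by push_cast; omega) hγ) h)
    refine subsingleton_of_restrict _ (graph_over σ hσp) (isInvertible_boxPow κ hN m (r + 1))
      (EulerDeg.hEquiv k (nonempty_ideal_tensor hdim σ hσp hN hNinv (isInvertible_box κ m) r).some
        1).toEquiv.subsingleton ?_
    refine CurveBridge.subsingleton_h1_of_deg_gt (isRegCurve k hdim)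
      (CurveBridge.isFunctionField (k := k) hdim)
      (PicAux.isInvertible_pullback _ (isInvertible_boxPow κ hN m (r + 1))) ?_
    rw [deg_pullback_graph_boxPow hdim κ hκ hκ2 σ hσp hσ hN hNinv hg]
    push_cast at h ⊢
    linarith

include hdim hκ hκ2 hσ hN hNinv in
theorem finrank_h0_boxPow (hg : 1 ≤ Curv2.genus k C) {m r : ℕ} (hm : Curv2.genus k C ≤ m)
    (h : ((Curv2.genus k C : ℤ) - 1) * (r + 1) < 2 * m) :
    (Module.finrank k (Coh.HH (sq k C) (boxPow κ m N r) 0) : ℤ) =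
      (2 * (m : ℤ) - ((Curv2.genus k C : ℤ) - 1)) ^ 2 + 4 * (m : ℤ) * r -
        ((Curv2.genus k C : ℤ) - 1) * r * (r + 2) := by
  have h1 := subsingleton_h1_boxPow hdim κ hκ hκ2 σ hσp hσ hN hNinv hg hm r h
  have h2 := subsingleton_h2_boxPow hdim κ hκ hκ2 σ hσp hN hNinv hm r
  have he : Curv2.euler k (sq k C) (boxPow κ m N r) = _ := euler_extPow hdim σ hσp κ hκ hκ2 hσ hg
    (isInvertible_lbPow κ m) (isInvertible_lbPow κ m) hN hNinv r
  rw [deg_lbPow hdim κ hκ hκ2 m, ← Inter.eulerCharLE_eq k (dim_sq_le hdim), FGA.eulerCharLE,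
    Finset.sum_range_succ, Finset.sum_range_succ, Finset.sum_range_one,
    EulerDeg.finrank_eq_zero_of_subsingleton (k := k) h1,
    EulerDeg.finrank_eq_zero_of_subsingleton (k := k) h2] at he
  push_cast at he
  linarith

include hdim hκ hκ2 hσ hN hNinv in
theorem finrank_h0_boxPow_succ (hg : 1 ≤ Curv2.genus k C) {m r s : ℕ}
    (hm : Curv2.genus k C ≤ m) (hs0 : 0 < s)
    (hs : (s : ℤ) + ((Curv2.genus k C : ℤ) - 1) * (r + 1) = 2 * m) :
    Module.finrank k (Coh.HH (sq k C) (boxPow κ m N (r + 1)) 0) =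
      Module.finrank k (Coh.HH (sq k C) (boxPow κ m N r) 0) +
        Module.finrank k (Coh.HH C (lbPow κ s) 0) := by
  haveI := isClosedImmersion_graph σ hσp
  obtain ⟨γ, hγ⟩ := Nat.exists_eq_add_of_le' hg
  obtain ⟨e⟩ := nonempty_pullback_graph hdim κ hκ hκ2 σ hσp hσ hγ.symm hN hNinv m (r + 1) s
    (by rw [hγ] at hs; push_cast at hs; rw [add_sub_cancel_right] at hs; exact_mod_cast hs)
  let eI := (nonempty_ideal_tensor hdim σ hσp hN hNinv (isInvertible_box κ m) r).some
  haveI := subsingleton_h1_boxPow hdim κ hκ hκ2 σ hσp hσ hN hNinv hg hm r (by omega)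
  rw [finrank_h0_restrict_add _ (graph_over σ hσp) (isInvertible_boxPow κ hN m (r + 1))
      (EulerDeg.hEquiv k eI 1).toEquiv.subsingleton,
    EulerDeg.finrank_congr eI 0, EulerDeg.finrank_congr e 0]

include hdim hκ hκ2 hσ hN hNinv in
theorem finrank_h0_boxPow_succ_of_neg (hg : 1 ≤ Curv2.genus k C) {m r : ℕ}
    (h : 2 * (m : ℤ) < ((Curv2.genus k C : ℤ) - 1) * (r + 1)) :
    Module.finrank k (Coh.HH (sq k C) (boxPow κ m N (r + 1)) 0) =
      Module.finrank k (Coh.HH (sq k C) (boxPow κ m N r) 0) := by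
  haveI := isClosedImmersion_graph σ hσp
  haveI := isIntegral_curve k C
  have hP := PicAux.isInvertible_pullback (graph σ hσp) (isInvertible_boxPow κ hN m (r + 1))
  rw [finrank_h0_restrict_eq _ (graph_over σ hσp) (isInvertible_boxPow κ hN m (r + 1)) ?_,
    EulerDeg.finrank_congr (nonempty_ideal_tensor hdim σ hσp hN hNinv (isInvertible_box κ m) r).some 0]
  refine not_nontrivial_iff_subsingleton.1 fun hnt => ?_
  obtain ⟨φ, hφ⟩ := (Inter.nontrivial_h0_iff k _).1 hnt
  have hle := (EulerDeg.deg_le_and_isIso (EulerDeg.isInvertible_structureModule C) hP hφ k hdim.le).1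
  rw [EulerDeg.deg_structure, deg_pullback_graph_boxPow hdim κ hκ hκ2 σ hσp hσ hN hNinv hg] at hle
  push_cast at h hle
  linarith

include hdim hκ hκ2 hσ hN hNinv in
theorem finrank_h0_boxPow_stable (hg : 1 ≤ Curv2.genus k C) {m q : ℕ}
    (hq : 2 * (m : ℤ) < ((Curv2.genus k C : ℤ) - 1) * (q + 1)) :
    ∀ j : ℕ, Module.finrank k (Coh.HH (sq k C) (boxPow κ m N (q + j)) 0) =
      Module.finrank k (Coh.HH (sq k C) (boxPow κ m N q) 0)
  | 0 => rfl
  | j + 1 => by
    refine (finrank_h0_boxPow_succ_of_neg hdim κ hκ hκ2 σ hσp hσ hN hNinv hg (r := q + j) ?_).trans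
      (finrank_h0_boxPow_stable hg hq j)
    refine lt_of_lt_of_le hq (mul_le_mul_of_nonneg_left ?_ (by omega))
    push_cast
    omega

include hdim hκ hκ2 hσ hN hNinv in
theorem finrank_h1_boxPow_succ (hg : 1 ≤ Curv2.genus k C) {m r s : ℕ}
    (hm : Curv2.genus k C ≤ m) (hs0 : 0 < s) (hsg : s + 1 ≤ Curv2.genus k C)
    (hs : (s : ℤ) + ((Curv2.genus k C : ℤ) - 1) * (r + 1) = 2 * m) :
    (Module.finrank k (Coh.HH (sq k C) (boxPow κ m N (r + 1)) 1) : ℤ) =
      (Curv2.genus k C : ℤ) - s := by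
  haveI := isClosedImmersion_graph σ hσp
  obtain ⟨γ, hγ⟩ := Nat.exists_eq_add_of_le' hg
  obtain ⟨e⟩ := nonempty_pullback_graph hdim κ hκ hκ2 σ hσp hσ hγ.symm hN hNinv m (r + 1) s
    (by rw [hγ] at hs; push_cast at hs; rw [add_sub_cancel_right] at hs; exact_mod_cast hs)
  let eI := (nonempty_ideal_tensor hdim σ hσp hN hNinv (isInvertible_box κ m) r).some
  haveI := subsingleton_h1_boxPow hdim κ hκ hκ2 σ hσp hσ hN hNinv hg hm r (by omega)
  haveI := subsingleton_h2_boxPow hdim κ hκ hκ2 σ hσp hN hNinv hm r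
  rw [finrank_h1_restrict_eq _ (graph_over σ hσp) (isInvertible_boxPow κ hN m (r + 1))
      (EulerDeg.hEquiv k eI 1).toEquiv.subsingleton (EulerDeg.hEquiv k eI 2).toEquiv.subsingleton,
    EulerDeg.finrank_congr e 1]
  haveI := isIntegral_curve k C
  have he := euler_lbPow hdim κ hκ hκ2 s
  rw [EulerDeg.euler_eq_sub fun n hn => CurveBridge.subsingleton_HH k (isRegCurve k hdim) _ hn,
    h0_lbPow_of_le hdim κ hκ hκ2 hsg] at he
  omega

end Groth.HypSq
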